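import Cfsg.Agent.H79.DG.EvenAbs

/-!
# Generation of `E Q` by an involution and another element in characteristic 2: Singer elements
(helper79, for `S4180`)
-/

set_option autoImplicit false

namespace Cfsg.Agent.H79.DG

open QuadraticMap Cfsg.Agent.LieClassical.OrthCore Cfsg.Agent.LieClassical.OrthTrans
  Cfsg.Agent.LieClassical.OrthSimple Cfsg.Agent.ClassicalGeometry.OrthAutBasic
  Cfsg.Agent.H887.SiegelMethod Cfsg.Agent.H137

/-- an element outside the field of order 4 -/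
theorem exists_not_four {K : Type*} [Field K] [Finite K] (hK : 4 < Nat.card K) : ∃ z : K, z ^ 4 ≠ z := by
  classical
  have : Fintype K := Fintype.ofFinite K
  by_contra hne
  push Not at hne
  have h1 : (Polynomial.X ^ 4 - Polynomial.X : Polynomial K).natDegree = 4 :=
    FiniteField.X_pow_card_sub_X_natDegree_eq K (by norm_num)
  have h2 : (Polynomial.X ^ 4 - Polynomial.X : Polynomial K) = 0 := by
    refine Polynomial.eq_zero_of_natDegree_lt_card_of_eval_eq_zero' _ Finset.univ (fun z _ => ?_) ?_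
    · rw [Polynomial.eval_sub, Polynomial.eval_pow, Polynomial.eval_X, hne z, sub_self]
    · rw [h1, Finset.card_univ, ← Nat.card_eq_fintype_card]
      exact hK
  rw [h2, Polynomial.natDegree_zero] at h1
  exact absurd h1 (by norm_num)

variable {F V : Type*} [Field F] [AddCommGroup V] [Module F V] {Q : QuadraticForm F V}

theorem singer_add {K : Type*} [Field K] [Finite K] [Algebra F K] (P : SPair Q K) (h2 : (2 : K) = 0)
    (hK : 4 < Nat.card K) {g : Kˣ} (hg : ∀ c : Kˣ, c ∈ Subgroup.zpowers g) {d : V} (hd : P.Perp d)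
    (Y : AddSubgroup V) (hY : ∀ v ∈ Y, P.S g v ∈ Y) (h : P.e 1 + P.f 1 + d ∈ Y) :
    (∀ z, P.e z ∈ Y) ∧ (∀ z, P.f z ∈ Y) ∧ d ∈ Y := by
  have hYc : ∀ c : Kˣ, ∀ v ∈ Y, P.S c v ∈ Y := by
    intro c v hv
    obtain ⟨n, rfl⟩ := (mem_powers_iff_mem_zpowers (x := g) (y := c)).2 (hg c)
    show P.S (g ^ n) v ∈ Y
    rw [P.S_pow]
    induction n with
    | zero => exact hv
    | succ n ih => rw [pow_apply_succ]; exact hY _ ih
  obtain ⟨z, hz⟩ := exists_not_four hK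
  have hz0 : z ≠ 0 := by rintro rfl; simp at hz
  have hz1 : z ≠ 1 := by rintro rfl; simp at hz
  have hz1' : z + 1 ≠ 0 := by
    intro h0
    apply hz1
    linear_combination h0 - h2
  -- `g ≠ 1`
  have hg1 : (g : K) - 1 ≠ 0 := by
    intro h0
    have h1 : g = 1 := Units.ext (by rw [Units.val_one]; exact sub_eq_zero.1 h0)
    obtain ⟨n, hn⟩ := Subgroup.mem_zpowers_iff.1 (hg (Units.mk0 z hz0))
    rw [h1, one_zpow] at hn
    have := congrArg Units.val hn
    rw [Units.val_one, Units.val_mk0] at this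
    exact hz1 this.symm
  have hg2 : ((g⁻¹ : Kˣ) : K) - 1 ≠ 0 := by
    intro h0
    apply hg1
    have h1 : (g : K) * ((g⁻¹ : Kˣ) : K) = 1 := by rw [← Units.val_mul, mul_inv_cancel, Units.val_one]
    rw [sub_eq_zero.1 h0, mul_one] at h1
    rw [h1, sub_self]
  set t0 : K := (g : K) - 1 with ht0
  set u0 : K := ((g⁻¹ : Kˣ) : K) - 1 with hu0
  have h1 : P.e t0 + P.f u0 ∈ Y := by
    have h3 := Y.sub_mem (hY _ h) h
    rw [map_add, map_add, P.S_e, P.S_f, P.S_perp g hd, mul_one, mul_one] at h3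
    have e : P.e t0 + P.f u0 = P.e (g : K) + P.f ((g⁻¹ : Kˣ) : K) + d - (P.e 1 + P.f 1 + d) := by
      rw [ht0, hu0, map_sub, map_sub]
      abel
    rw [e]
    exact h3
  have h3 : ∀ x : K, x ≠ 0 → P.e x + P.f (x⁻¹ * (t0 * u0)) ∈ Y := by
    intro x hx
    have hc : x * t0⁻¹ ≠ 0 := mul_ne_zero hx (inv_ne_zero hg1)
    have h4 := hYc (Units.mk0 _ hc) _ h1
    rw [map_add, P.S_e, P.S_f, Units.val_mk0, Units.val_inv_eq_inv_val, Units.val_mk0] at h4
    have e1 : x * t0⁻¹ * t0 = x := by field_simp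
    have e2 : (x * t0⁻¹)⁻¹ * u0 = x⁻¹ * (t0 * u0) := by field_simp
    rwa [e1, e2] at h4
  have h5 : P.f ((z⁻¹ + 1 - (z + 1)⁻¹) * (t0 * u0)) ∈ Y := by
    have h6 := Y.sub_mem (Y.add_mem (h3 z hz0) (h3 1 one_ne_zero)) (h3 (z + 1) hz1')
    have e : P.f ((z⁻¹ + 1 - (z + 1)⁻¹) * (t0 * u0)) = P.e z + P.f (z⁻¹ * (t0 * u0)) +
        (P.e 1 + P.f (1⁻¹ * (t0 * u0))) - (P.e (z + 1) + P.f ((z + 1)⁻¹ * (t0 * u0))) := by
      rw [inv_one, sub_mul, add_mul, map_sub, map_add, map_add]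
      abel
    rw [e]
    exact h6
  have hs : (z⁻¹ + 1 - (z + 1)⁻¹) * (t0 * u0) ≠ 0 := by
    refine mul_ne_zero ?_ (mul_ne_zero hg1 hg2)
    intro h0
    apply hz
    have h6 : z ^ 2 + z + 1 = 0 := by
      have h7 : z * (z + 1) * (z⁻¹ + 1 - (z + 1)⁻¹) = z ^ 2 + z + 1 := by
        field_simp
        ring
      rw [← h7, h0, mul_zero]
    linear_combination (z ^ 2 - z) * h6
  have hf : ∀ x, P.f x ∈ Y := by
    intro x
    by_cases hx : x = 0
    · rw [hx, map_zero]; exact Y.zero_mem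
    set s := (z⁻¹ + 1 - (z + 1)⁻¹) * (t0 * u0) with hs'
    have hc : s * x⁻¹ ≠ 0 := mul_ne_zero hs (inv_ne_zero hx)
    have h4 := hYc (Units.mk0 _ hc) _ h5
    rw [P.S_f, Units.val_inv_eq_inv_val, Units.val_mk0] at h4
    have e1 : (s * x⁻¹)⁻¹ * s = x := by field_simp
    rwa [e1] at h4
  have he : ∀ x, P.e x ∈ Y := by
    intro x
    by_cases hx : x = 0
    · rw [hx, map_zero]; exact Y.zero_mem
    have := Y.sub_mem (h3 x hx) (hf (x⁻¹ * (t0 * u0)))
    rwa [add_sub_cancel_right] at this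
  refine ⟨he, hf, ?_⟩
  have := Y.sub_mem h (Y.add_mem (he 1) (hf 1))
  rwa [add_sub_cancel_left] at this

/-- **the Singer case** -/
theorem exists_b_singer [Finite F] [FiniteDimensional F V] (h2 : (2 : F) = 0) (hG : Good Q) {k : ℕ} (hk : 2 ≤ k)
    (hq : 4 < Nat.card F ^ k) {ev fv : Fin (k + 1) → V} (h : HypFam Q ev fv) {d0 d : V}
    (hd0 : Perp Q ev fv d0) (hd : Perp Q ev fv d) (hQ0 : Q d0 ≠ 0) (hdd : polar Q d0 d ≠ 0)
    (hspan : ∀ v, Perp Q ev fv v → v ∈ Submodule.span F {d0, d}) :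
    ∃ y, polar Q (ev 0) y = 0 ∧ polar Q (fv 0) y = 0 ∧ y ≠ 0 ∧
      ∃ b ∈ E Q, E Q ≤ Subgroup.closure {T Q (ev 0) y, b} := by
  obtain ⟨K, _, _, _, hK⟩ := exists_ext F k (by omega)
  have : FiniteDimensional F K := Module.finite_of_finrank_pos (by omega)
  have : Algebra.IsSeparable F K := inferInstance
  let b : Module.Basis (Fin k) F K := (Module.finBasis F K).reindex (finCongr hK)
  have hfam : HypFam Q (fun i : Fin k => ev i.succ) (fun i : Fin k => fv i.succ) := by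
    refine ⟨fun i => h.Qe _, fun i => h.Qf _, fun i j => h.ee _ _, fun i j => h.ff _ _, fun i j => ?_⟩
    rw [h.ef]
    simp only [Fin.succ_inj]
  set P := mkPair b hfam with hP
  have hpe : ∀ v, P.Perp v ↔ (∀ i : Fin k, polar Q (ev i.succ) v = 0) ∧ ∀ i : Fin k, polar Q (fv i.succ) v = 0 :=
    fun v => perp_mkPair b hfam v
  have hyp : Hyp Q (ev 0) (fv 0) := ⟨h.Qe _, h.Qf _, by rw [h.ef, if_pos rfl]⟩
  have he0 : P.Perp (ev 0) := (hpe _).2 ⟨fun i => h.ee _ _, fun i => by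
    rw [polar_comm, h.ef, if_neg (Fin.succ_ne_zero i).symm]⟩
  have hf0 : P.Perp (fv 0) := (hpe _).2 ⟨fun i => by
    rw [h.ef, if_neg (Fin.succ_ne_zero i)], fun i => h.ff _ _⟩
  have hPd0 : P.Perp d0 := (hpe d0).2 ⟨fun i => hd0.1 _, fun i => hd0.2 _⟩
  have hPd : P.Perp d := (hpe d).2 ⟨fun i => hd.1 _, fun i => hd.2 _⟩
  have hcard : 4 < Nat.card K := by
    rw [Module.natCard_eq_pow_finrank (K := F) (V := K), hK]
    exact hq
  have h2K : (2 : K) = 0 := by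
    have := congrArg (algebraMap F K) h2
    rwa [map_ofNat, map_zero] at this
  have hch : ringChar F = 2 := CharP.ringChar_of_prime_eq_zero Nat.prime_two (by exact_mod_cast h2)
  have hcop : Nat.Coprime (Nat.card Kˣ) 2 := by
    have := coprime_card_units F K
    rwa [hch] at this
  obtain ⟨g, hg⟩ := IsCyclic.exists_generator (α := Kˣ)
  have hSN : P.S g ^ Nat.card Kˣ = 1 := by rw [← P.S_pow, pow_card_eq_one', P.S_one]
  have hSE : P.S g ∈ E Q := by
    obtain ⟨j, hj⟩ : Odd (Nat.card Kˣ) := Nat.coprime_two_right.1 hcop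
    have e : g = g ^ (j + 1) * g ^ (j + 1) := by
      rw [← pow_add]
      have h4 : j + 1 + (j + 1) = Nat.card Kˣ + 1 := by omega
      rw [h4, pow_succ, pow_card_eq_one', one_mul]
    rw [e, P.S_mul]
    exact sq_mem_E hG (P.S_mem_O _)
  let i0 : Fin k := ⟨0, by omega⟩
  have htr : Algebra.trace F K (b i0 * b.traceDual i0) = 1 := by rw [b.trace_mul_traceDual, if_pos rfl]
  have hH2 : Hyp2 Q (ev 0) (fv 0) (P.e (b i0)) (P.f (b.traceDual i0)) :=
    ⟨hyp, ⟨P.Qe _, P.Qf _, by rw [P.polar_e_f, htr]⟩, P.polar_e' he0 _, P.polar_f' he0 _, P.polar_e' hf0 _,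
      P.polar_f' hf0 _⟩
  let U : Submodule F V := LinearMap.range P.e ⊔ LinearMap.range P.f
  have hUe : ∀ x, P.e x ∈ U := fun x => (le_sup_left : _ ≤ U) ⟨x, rfl⟩
  have hUf : ∀ x, P.f x ∈ U := fun x => (le_sup_right : _ ≤ U) ⟨x, rfl⟩
  have hUp : ∀ {w : V}, P.Perp w → ∀ u ∈ U, polar Q w u = 0 := by
    intro w hw u hu
    obtain ⟨_, ⟨x, rfl⟩, _, ⟨x', rfl⟩, rfl⟩ := Submodule.mem_sup.1 hu
    rw [polar_add_right, P.polar_e' hw, P.polar_f' hw, add_zero]
  refine ⟨P.e 1 + P.f 1 + d, ?_, ?_, ?_, ?_⟩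
  · rw [polar_add_right, polar_add_right, P.polar_e' he0, P.polar_f' he0, hd.1, add_zero, add_zero]
  · rw [polar_add_right, polar_add_right, P.polar_e' hf0, P.polar_f' hf0, hd.2, add_zero, add_zero]
  · intro h0
    have h1 := congrArg P.pe h0
    rw [map_add, map_add, P.pe_e, P.pe_f, hPd.1, map_zero, add_zero, add_zero] at h1
    exact one_ne_zero h1
  refine exists_b hG hH2 (U := U) (hUe _) (hUf _) (fun u hu => ⟨hUp he0 u hu, hUp hf0 u hu⟩) (d0 := d0) (d := d)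
    ⟨hd0.1 _, hd0.2 _, fun u hu => by rw [polar_comm]; exact hUp hPd0 u hu⟩
    ⟨hd.1 _, hd.2 _, fun u hu => by rw [polar_comm]; exact hUp hPd u hu⟩ hQ0 hdd ?_ hSE hcop hSN
    (P.S_perp g he0) (P.S_perp g hf0) (P.S_perp g hPd0) (U.add_mem (hUe 1) (hUf 1)) ?_
  · intro v hv1 hv2
    refine ⟨P.e (P.pe v) + P.f (P.pf v), U.add_mem (hUe _) (hUf _), ?_⟩
    rw [← sub_sub]
    have h3 := P.perp_sub v
    refine hspan _ ⟨fun i => ?_, fun i => ?_⟩
    · refine Fin.cases ?_ (fun j => ((hpe _).1 h3).1 j) i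
      rw [polar_sub_right, polar_sub_right, hv1, P.polar_e' he0, P.polar_f' he0, sub_zero, sub_zero]
    · refine Fin.cases ?_ (fun j => ((hpe _).1 h3).2 j) i
      rw [polar_sub_right, polar_sub_right, hv2, P.polar_e' hf0, P.polar_f' hf0, sub_zero, sub_zero]
  · intro Y hY hy
    obtain ⟨h3, h4, h5⟩ := singer_add P h2K hcard hg hPd Y hY hy
    refine ⟨fun u hu => ?_, h5⟩
    obtain ⟨_, ⟨x, rfl⟩, _, ⟨x', rfl⟩, rfl⟩ := Submodule.mem_sup.1 hu
    exact Y.add_mem (h3 x) (h4 x')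

end Cfsg.Agent.H79.DG
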