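import Cfsg.Agent.H79.DG.EvenSinger

/-!
# Generation of `E Q` by an involution and another element: dimension 8 over the field with two elements
(helper79, for `S4180`)
-/

set_option autoImplicit false

namespace Cfsg.Agent.H79.DG

open QuadraticMap Cfsg.Agent.LieClassical.OrthCore Cfsg.Agent.LieClassical.OrthTrans
  Cfsg.Agent.LieClassical.OrthSimple Cfsg.Agent.ClassicalGeometry.OrthAutBasic
  Cfsg.Agent.H887.SiegelMethod Cfsg.Agent.H137

variable {F V : Type*} [Field F] [AddCommGroup V] [Module F V] {Q : QuadraticForm F V}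

theorem perp_span {S : Set V} {x : V} (h : ∀ s ∈ S, polar Q x s = 0) : ∀ u ∈ Submodule.span F S, polar Q x u = 0 := by
  intro u hu
  induction hu using Submodule.span_induction with
  | mem s hs => exact h s hs
  | zero => exact polar_zero_right Q x
  | add a b _ _ ha hb => rw [polar_add_right, ha, hb, add_zero]
  | smul c a _ ha => rw [polar_smul_right, ha, smul_zero]

/-- two hyperbolic pairs, an anisotropic plane and another plane -/
theorem exists_b_conf [Finite F] [FiniteDimensional F V] (h2 : (2 : F) = 0) (hF : ∀ a : F, a = 0 ∨ a = 1)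
    (hG : Good Q) {e0 f0 e1 f1 u1 u2 d0 d : V} (h : Hyp2 Q e0 f0 e1 f1) (q1 : Q u1 = 1) (q2 : Q u2 = 1)
    (q12 : polar Q u1 u2 = 1)
    (hu1 : polar Q e0 u1 = 0 ∧ polar Q f0 u1 = 0 ∧ polar Q e1 u1 = 0 ∧ polar Q f1 u1 = 0)
    (hu2 : polar Q e0 u2 = 0 ∧ polar Q f0 u2 = 0 ∧ polar Q e1 u2 = 0 ∧ polar Q f1 u2 = 0)
    (hd0 : polar Q e0 d0 = 0 ∧ polar Q f0 d0 = 0 ∧ polar Q e1 d0 = 0 ∧ polar Q f1 d0 = 0 ∧ polar Q u1 d0 = 0 ∧
      polar Q u2 d0 = 0)
    (hd : polar Q e0 d = 0 ∧ polar Q f0 d = 0 ∧ polar Q e1 d = 0 ∧ polar Q f1 d = 0 ∧ polar Q u1 d = 0 ∧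
      polar Q u2 d = 0)
    (hQ0 : Q d0 ≠ 0) (hdd : polar Q d0 d ≠ 0)
    (hspan : ∀ v, polar Q e0 v = 0 → polar Q f0 v = 0 → polar Q e1 v = 0 → polar Q f1 v = 0 → polar Q u1 v = 0 →
      polar Q u2 v = 0 → v ∈ Submodule.span F {d0, d}) :
    ∃ y, polar Q e0 y = 0 ∧ polar Q f0 y = 0 ∧ y ≠ 0 ∧
      ∃ b ∈ E Q, E Q ≤ Subgroup.closure {T Q e0 y, b} := by
  have hxx : ∀ x : V, x + x = 0 := fun x => by rw [← two_smul F, h2, zero_smul]
  have hneg : ∀ x : V, -x = x := fun x => neg_eq_of_add_eq_zero_left (hxx x)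
  have hTap : ∀ {x w : V}, Q x = 0 → polar Q x w = 0 → ∀ v,
      T Q x w v = v + polar Q x v • w + polar Q w v • x + (Q w * polar Q x v) • x := by
    intro x w hx hw v
    rw [T_apply hx hw, sub_eq_add_neg, sub_eq_add_neg, hneg, hneg]
  -- the polar form
  have p11 : polar Q e1 e1 = 0 := polar_self_of_sing h.hy.left
  have p22 : polar Q f1 f1 = 0 := polar_self_of_sing h.hy.right
  have p12 : polar Q e1 f1 = 1 := h.hy.pair
  have p21 : polar Q f1 e1 = 1 := h.hy.pair'
  have p33 : polar Q u1 u1 = 0 := by rw [polar_self', h2, zero_mul]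
  have p44 : polar Q u2 u2 = 0 := by rw [polar_self', h2, zero_mul]
  have p43 : polar Q u2 u1 = 1 := by rw [polar_comm]; exact q12
  obtain ⟨a1, a2, p13, p23⟩ := hu1
  obtain ⟨b1, b2, p14, p24⟩ := hu2
  have p31 : polar Q u1 e1 = 0 := by rw [polar_comm]; exact p13
  have p32 : polar Q u1 f1 = 0 := by rw [polar_comm]; exact p23
  have p41 : polar Q u2 e1 = 0 := by rw [polar_comm]; exact p14
  have p42 : polar Q u2 f1 = 0 := by rw [polar_comm]; exact p24
  -- the element of order 5
  set S : V ≃ₗ[F] V := T Q e1 u1 * T Q f1 u2 with hS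
  have hSE : S ∈ E Q := E_mul (T_mem_E _ _) (T_mem_E _ _)
  have key : ∀ v, S v = T Q e1 u1 (T Q f1 u2 v) := fun v => rfl
  have t1 : ∀ v, T Q e1 u1 v = v + polar Q e1 v • u1 + polar Q u1 v • e1 + (Q u1 * polar Q e1 v) • e1 :=
    hTap h.hy.left p13
  have t2 : ∀ v, T Q f1 u2 v = v + polar Q f1 v • u2 + polar Q u2 v • f1 + (Q u2 * polar Q f1 v) • f1 :=
    hTap h.hy.right p24
  have c1 : T Q e1 u1 e1 = e1 := by rw [t1, p11, p31]; simp
  have c2 : T Q e1 u1 f1 = f1 + u1 + e1 := by rw [t1, p12, p32, q1]; simp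
  have c3 : T Q e1 u1 u1 = u1 := by rw [t1, p13, p33]; simp
  have c4 : T Q e1 u1 u2 = u2 + e1 := by rw [t1, p14, q12]; simp
  have s1 : S e1 = e1 + f1 + u1 + u2 := by
    rw [key, t2, p21, p41, q2]
    simp only [one_smul, zero_smul, add_zero, mul_one, map_add, c1, c2, c4]
    have e : e1 + (u2 + e1) + (f1 + u1 + e1) = e1 + f1 + u1 + u2 + (e1 + e1) := by abel
    rw [e, hxx, add_zero]
  have s2 : S f1 = e1 + f1 + u1 := by
    rw [key, t2, p22, p42]
    simp only [zero_smul, add_zero, mul_zero, c2]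
    abel
  have s3 : S u1 = e1 + f1 := by
    rw [key, t2, p23, p43]
    simp only [one_smul, zero_smul, add_zero, mul_zero, map_add, c2, c3]
    have e : u1 + (f1 + u1 + e1) = e1 + f1 + (u1 + u1) := by abel
    rw [e, hxx, add_zero]
  have s4 : S u2 = e1 + u2 := by
    rw [key, t2, p24, p44]
    simp only [zero_smul, add_zero, mul_zero, c4]
    abel
  have s5 : ∀ v, polar Q e1 v = 0 → polar Q f1 v = 0 → polar Q u1 v = 0 → polar Q u2 v = 0 → S v = v := by
    intro v v1 v2 v3 v4
    rw [key, t2, v2, v4]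
    simp only [zero_smul, add_zero, mul_zero]
    rw [t1, v1, v3]
    simp
  -- its order
  have hSN : S ^ 5 = 1 := by
    have k5 : ∀ v, (S ^ 5) v = S (S (S (S (S v)))) := fun v => by
      simp only [pow_succ, pow_zero, one_mul]
      rfl
    have o1 : S (S e1) = f1 := by
      rw [s1, map_add, map_add, map_add, s1, s2, s3, s4]
      have e : e1 + f1 + u1 + u2 + (e1 + f1 + u1) + (e1 + f1) + (e1 + u2) =
        f1 + ((e1 + e1) + (e1 + e1) + (f1 + f1) + (u1 + u1) + (u2 + u2)) := by abel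
      rw [e]
      simp only [hxx, add_zero]
    have o2 : S (e1 + f1 + u1) = e1 + f1 + u2 := by
      rw [map_add, map_add, s1, s2, s3]
      have e : e1 + f1 + u1 + u2 + (e1 + f1 + u1) + (e1 + f1) =
        e1 + f1 + u2 + ((e1 + e1) + (f1 + f1) + (u1 + u1)) := by abel
      rw [e]
      simp only [hxx, add_zero]
    have o3 : S (e1 + f1 + u2) = e1 := by
      rw [map_add, map_add, s1, s2, s4]
      have e : e1 + f1 + u1 + u2 + (e1 + f1 + u1) + (e1 + u2) =
        e1 + ((e1 + e1) + (f1 + f1) + (u1 + u1) + (u2 + u2)) := by abel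
      rw [e]
      simp only [hxx, add_zero]
    have h5e : (S ^ 5) e1 = e1 := by rw [k5, o1, s2, o2, o3]
    have hcomm : ∀ v, (S ^ 5) (S v) = S ((S ^ 5) v) := fun v => by rw [k5, k5]
    have h5f : (S ^ 5) f1 = f1 := by rw [← o1, hcomm, hcomm, h5e]
    have h5u1 : (S ^ 5) u1 = u1 := by
      have e : u1 = S f1 + e1 + f1 := by
        rw [s2]
        have e' : e1 + f1 + u1 + e1 + f1 = u1 + ((e1 + e1) + (f1 + f1)) := by abel
        rw [e']
        simp only [hxx, add_zero]
      rw [e, map_add, map_add, hcomm, h5f, h5e]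
    have h5u2 : (S ^ 5) u2 = u2 := by
      have e : u2 = S e1 + e1 + f1 + u1 := by
        rw [s1]
        have e' : e1 + f1 + u1 + u2 + e1 + f1 + u1 = u2 + ((e1 + e1) + (f1 + f1) + (u1 + u1)) := by abel
        rw [e']
        simp only [hxx, add_zero]
      rw [e, map_add, map_add, map_add, hcomm, h5e, h5f, h5u1]
    ext v
    show (S ^ 5) v = v
    set v' := v - polar Q f1 v • e1 - polar Q e1 v • f1 - polar Q u2 v • u1 - polar Q u1 v • u2 with hv'
    have w1 : polar Q e1 v' = 0 := by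
      simp only [hv', polar_sub_right, polar_smul_right, p11, p12, p13, p14, smul_eq_mul]; ring
    have w2 : polar Q f1 v' = 0 := by
      simp only [hv', polar_sub_right, polar_smul_right, p21, p22, p23, p24, smul_eq_mul]; ring
    have w3 : polar Q u1 v' = 0 := by
      simp only [hv', polar_sub_right, polar_smul_right, p31, p32, p33, q12, smul_eq_mul]; ring
    have w4 : polar Q u2 v' = 0 := by
      simp only [hv', polar_sub_right, polar_smul_right, p41, p42, p43, p44, smul_eq_mul]; ring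
    have h5v : (S ^ 5) v' = v' := by
      have := s5 v' w1 w2 w3 w4
      rw [k5, this, this, this, this, this]
    have e : v = v' + polar Q f1 v • e1 + polar Q e1 v • f1 + polar Q u2 v • u1 + polar Q u1 v • u2 := by
      rw [hv']; abel
    rw [e]
    simp only [map_add, map_smul, h5v, h5e, h5f, h5u1, h5u2]
  have hu0e : ∀ s ∈ ({e1, f1, u1, u2} : Set V), polar Q e0 s = 0 := by
    rintro s (rfl | rfl | rfl | rfl)
    · exact h.xy
    · exact h.xy'
    · exact a1
    · exact b1
  have hu0f : ∀ s ∈ ({e1, f1, u1, u2} : Set V), polar Q f0 s = 0 := by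
    rintro s (rfl | rfl | rfl | rfl)
    · exact h.x'y
    · exact h.x'y'
    · exact a2
    · exact b2
  have hperp : ∀ {w : V}, polar Q e1 w = 0 → polar Q f1 w = 0 → polar Q u1 w = 0 → polar Q u2 w = 0 →
      ∀ u ∈ Submodule.span F {e1, f1, u1, u2}, polar Q u w = 0 := by
    intro w w1 w2 w3 w4 u hu
    rw [polar_comm]
    refine perp_span ?_ u hu
    rintro s (rfl | rfl | rfl | rfl) <;> rw [polar_comm] <;> assumption
  have m1 : e1 ∈ Submodule.span F {e1, f1, u1, u2} := Submodule.subset_span (by simp)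
  have m2 : f1 ∈ Submodule.span F {e1, f1, u1, u2} := Submodule.subset_span (by simp)
  have m3 : u1 ∈ Submodule.span F {e1, f1, u1, u2} := Submodule.subset_span (by simp)
  have m4 : u2 ∈ Submodule.span F {e1, f1, u1, u2} := Submodule.subset_span (by simp)
  refine ⟨e1 + d, ?_, ?_, ?_, ?_⟩
  · rw [polar_add_right, h.xy, hd.1, add_zero]
  · rw [polar_add_right, h.x'y, hd.2.1, add_zero]
  · intro h0
    have h1 : polar Q f1 (e1 + d) = 0 := by rw [h0, polar_zero_right]
    rw [polar_add_right, p21, hd.2.2.2.1, add_zero] at h1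
    exact one_ne_zero h1
  refine exists_b hG h (U := Submodule.span F {e1, f1, u1, u2}) m1 m2
    (fun u hu => ⟨perp_span hu0e u hu, perp_span hu0f u hu⟩) (d0 := d0) (d := d)
    ⟨hd0.1, hd0.2.1, hperp hd0.2.2.1 hd0.2.2.2.1 hd0.2.2.2.2.1 hd0.2.2.2.2.2⟩
    ⟨hd.1, hd.2.1, hperp hd.2.2.1 hd.2.2.2.1 hd.2.2.2.2.1 hd.2.2.2.2.2⟩ hQ0 hdd ?_ hSE (N := 5) (by decide) hSN
    (s5 e0 (by rw [polar_comm]; exact h.xy) (by rw [polar_comm]; exact h.xy') (by rw [polar_comm]; exact a1)
      (by rw [polar_comm]; exact b1))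
    (s5 f0 (by rw [polar_comm]; exact h.x'y) (by rw [polar_comm]; exact h.x'y') (by rw [polar_comm]; exact a2)
      (by rw [polar_comm]; exact b2))
    (s5 d0 hd0.2.2.1 hd0.2.2.2.1 hd0.2.2.2.2.1 hd0.2.2.2.2.2) m1 ?_
  · intro v v1 v2
    refine ⟨polar Q f1 v • e1 + polar Q e1 v • f1 + polar Q u2 v • u1 + polar Q u1 v • u2,
      Submodule.add_mem _ (Submodule.add_mem _ (Submodule.add_mem _ (Submodule.smul_mem _ _ m1)
        (Submodule.smul_mem _ _ m2)) (Submodule.smul_mem _ _ m3)) (Submodule.smul_mem _ _ m4), ?_⟩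
    apply hspan
    · simp only [polar_sub_right, polar_add_right, polar_smul_right, v1, h.xy, h.xy', a1, b1, smul_eq_mul]; ring
    · simp only [polar_sub_right, polar_add_right, polar_smul_right, v2, h.x'y, h.x'y', a2, b2, smul_eq_mul]; ring
    · simp only [polar_sub_right, polar_add_right, polar_smul_right, p11, p12, p13, p14, smul_eq_mul]; ring
    · simp only [polar_sub_right, polar_add_right, polar_smul_right, p21, p22, p23, p24, smul_eq_mul]; ring
    · simp only [polar_sub_right, polar_add_right, polar_smul_right, p31, p32, p33, q12, smul_eq_mul]; ring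
    · simp only [polar_sub_right, polar_add_right, polar_smul_right, p41, p42, p43, p44, smul_eq_mul]; ring
  · intro Y hY hy
    have hSd : S d = d := s5 d hd.2.2.1 hd.2.2.2.1 hd.2.2.2.2.1 hd.2.2.2.2.2
    have z0 : f1 + u1 + u2 ∈ Y := by
      have h3 := Y.sub_mem (hY _ hy) hy
      rw [map_add, s1, hSd] at h3
      have e : f1 + u1 + u2 = e1 + f1 + u1 + u2 + d - (e1 + d) := by abel
      rw [e]; exact h3
    have z1 : e1 + u1 + u2 ∈ Y := by
      have h3 := hY _ z0
      rw [map_add, map_add, s2, s3, s4] at h3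
      have e : e1 + f1 + u1 + (e1 + f1) + (e1 + u2) = e1 + u1 + u2 + ((e1 + e1) + (f1 + f1)) := by abel
      rwa [e, hxx, hxx, add_zero, add_zero] at h3
    have z2 : e1 + u1 ∈ Y := by
      have h3 := hY _ z1
      rw [map_add, map_add, s1, s3, s4] at h3
      have e : e1 + f1 + u1 + u2 + (e1 + f1) + (e1 + u2) = e1 + u1 + ((e1 + e1) + (f1 + f1) + (u2 + u2)) := by abel
      rw [e] at h3
      simpa only [hxx, add_zero] using h3
    have z3 : u1 + u2 ∈ Y := by
      have h3 := hY _ z2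
      rw [map_add, s1, s3] at h3
      have e : e1 + f1 + u1 + u2 + (e1 + f1) = u1 + u2 + ((e1 + e1) + (f1 + f1)) := by abel
      rwa [e, hxx, hxx, add_zero, add_zero] at h3
    have y1 : f1 ∈ Y := by
      have h3 := Y.sub_mem z0 z3
      have e : f1 + u1 + u2 - (u1 + u2) = f1 := by abel
      rwa [e] at h3
    have y2 : e1 ∈ Y := by
      have h3 := Y.sub_mem z1 z3
      have e : e1 + u1 + u2 - (u1 + u2) = e1 := by abel
      rwa [e] at h3
    have y3 : u1 ∈ Y := by
      have h3 := Y.sub_mem z2 y2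
      rwa [add_sub_cancel_left] at h3
    have y4 : u2 ∈ Y := by
      have h3 := Y.sub_mem z3 y3
      rwa [add_sub_cancel_left] at h3
    refine ⟨fun u hu => ?_, ?_⟩
    · induction hu using Submodule.span_induction with
      | mem s hs =>
        rcases hs with rfl | rfl | rfl | rfl
        · exact y2
        · exact y1
        · exact y3
        · exact y4
      | zero => exact Y.zero_mem
      | add a b _ _ ha hb => exact Y.add_mem ha hb
      | smul c a _ ha =>
        rcases hF c with rfl | rfl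
        · rw [zero_smul]; exact Y.zero_mem
        · rw [one_smul]; exact ha
    · have h3 := Y.sub_mem hy y2
      rwa [add_sub_cancel_left] at h3

/-- dimension 8 over the field with two elements -/
theorem exists_b_eight [Finite F] [FiniteDimensional F V] (h2 : (2 : F) = 0) (hF : ∀ a : F, a = 0 ∨ a = 1)
    (hG : Good Q) {ev fv : Fin 3 → V} (h : HypFam Q ev fv) {d0 d : V} (hd0 : Perp Q ev fv d0)
    (hd : Perp Q ev fv d) (hQ0 : Q d0 ≠ 0) (hdd : polar Q d0 d ≠ 0)
    (hspan : ∀ v, Perp Q ev fv v → v ∈ Submodule.span F {d0, d}) :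
    ∃ y, polar Q (ev 0) y = 0 ∧ polar Q (fv 0) y = 0 ∧ y ≠ 0 ∧
      ∃ b ∈ E Q, E Q ≤ Subgroup.closure {T Q (ev 0) y, b} := by
  have hQ1 : Q d0 = 1 := (hF _).resolve_left hQ0
  have hd1 : polar Q d0 d = 1 := (hF _).resolve_left hdd
  have hd1' : polar Q d d0 = 1 := by rw [polar_comm]; exact hd1
  have h1 : Hyp2 Q (ev 0) (fv 0) (ev 1) (fv 1) := hyp2 h (by decide)
  have ef : ∀ i j, i ≠ j → polar Q (ev i) (fv j) = 0 := fun i j hij => by rw [h.ef, if_neg hij]
  have fe' : ∀ i j, i ≠ j → polar Q (fv i) (ev j) = 0 := fun i j hij => by rw [fe h, if_neg hij]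
  have efs : ∀ i, polar Q (ev i) (fv i) = 1 := fun i => by rw [h.ef, if_pos rfl]
  have fes : ∀ i, polar Q (fv i) (ev i) = 1 := fun i => by rw [fe h, if_pos rfl]
  have ne02 : (0 : Fin 3) ≠ 2 := by decide
  have ne12 : (1 : Fin 3) ≠ 2 := by decide
  have p00 : polar Q d0 d0 = 0 := by rw [polar_self', h2, zero_mul]
  have pdd : polar Q d d = 0 := by rw [polar_self', h2, zero_mul]
  have c2 : (1 : F) + 1 = 0 := by rw [one_add_one_eq_two]; exact h2
  have comm2 : ∀ x v, polar Q v x = polar Q x v := fun x v => polar_comm _ _ _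
  -- the projection
  have proj : ∀ v, polar Q (ev 0) v = 0 → polar Q (fv 0) v = 0 → polar Q (ev 1) v = 0 → polar Q (fv 1) v = 0 →
      ∃ a b : F, v = a • d0 + b • d + polar Q (fv 2) v • ev 2 + polar Q (ev 2) v • fv 2 := by
    intro v v1 v2 v3 v4
    have h3 : Perp Q ev fv (v - polar Q (fv 2) v • ev 2 - polar Q (ev 2) v • fv 2) := by
      refine ⟨fun i => ?_, fun i => ?_⟩
      · fin_cases i
        · show polar Q (ev 0) _ = 0
          simp only [polar_sub_right, polar_smul_right, v1, h.ee, ef 0 2 ne02, smul_zero, sub_zero]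
        · show polar Q (ev 1) _ = 0
          simp only [polar_sub_right, polar_smul_right, v3, h.ee, ef 1 2 ne12, smul_zero, sub_zero]
        · show polar Q (ev 2) _ = 0
          simp only [polar_sub_right, polar_smul_right, h.ee, efs, smul_eq_mul, mul_zero, sub_zero, mul_one, sub_self]
      · fin_cases i
        · show polar Q (fv 0) _ = 0
          simp only [polar_sub_right, polar_smul_right, v2, h.ff, fe' 0 2 ne02, smul_zero, sub_zero]
        · show polar Q (fv 1) _ = 0
          simp only [polar_sub_right, polar_smul_right, v4, h.ff, fe' 1 2 ne12, smul_zero, sub_zero]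
        · show polar Q (fv 2) _ = 0
          simp only [polar_sub_right, polar_smul_right, h.ff, fes, smul_eq_mul, mul_zero, mul_one, sub_self]
    obtain ⟨a, b, hab⟩ := Submodule.mem_span_pair.1 (hspan _ h3)
    exact ⟨a, b, by rw [hab]; abel⟩
  rcases hF (Q d) with hQd | hQd
  · -- `d` singular
    refine exists_b_conf h2 hF hG (u1 := ev 2 + fv 2) (u2 := ev 2 + d0) (d0 := d0) (d := ev 2 + fv 2 + d) h1
      ?_ ?_ ?_ ⟨?_, ?_, ?_, ?_⟩ ⟨?_, ?_, ?_, ?_⟩ ⟨?_, ?_, ?_, ?_, ?_, ?_⟩ ⟨?_, ?_, ?_, ?_, ?_, ?_⟩ hQ0 ?_ ?_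
    · rw [Q_add, h.Qe, h.Qf, efs]; simp
    · rw [Q_add, h.Qe, hQ1, hd0.1]; simp
    · rw [polar_add_left, polar_add_right, polar_add_right, h.ee, hd0.1, fes, hd0.2]; simp
    · rw [polar_add_right, h.ee, ef 0 2 ne02, add_zero]
    · rw [polar_add_right, h.ff, fe' 0 2 ne02, add_zero]
    · rw [polar_add_right, h.ee, ef 1 2 ne12, add_zero]
    · rw [polar_add_right, h.ff, fe' 1 2 ne12, add_zero]
    · rw [polar_add_right, h.ee, hd0.1, add_zero]
    · rw [polar_add_right, fe' 0 2 ne02, hd0.2, add_zero]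
    · rw [polar_add_right, h.ee, hd0.1, add_zero]
    · rw [polar_add_right, fe' 1 2 ne12, hd0.2, add_zero]
    · exact hd0.1 _
    · exact hd0.2 _
    · exact hd0.1 _
    · exact hd0.2 _
    · rw [polar_add_left, hd0.1, hd0.2, add_zero]
    · rw [polar_add_left, hd0.1, p00, add_zero]
    · rw [polar_add_right, polar_add_right, h.ee, ef 0 2 ne02, hd.1, add_zero, add_zero]
    · rw [polar_add_right, polar_add_right, h.ff, fe' 0 2 ne02, hd.2, add_zero, add_zero]
    · rw [polar_add_right, polar_add_right, h.ee, ef 1 2 ne12, hd.1, add_zero, add_zero]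
    · rw [polar_add_right, polar_add_right, h.ff, fe' 1 2 ne12, hd.2, add_zero, add_zero]
    · simp only [polar_add_left, polar_add_right, h.ee, h.ff, efs, fes, hd.1, hd.2, add_zero, zero_add, c2]
    · simp only [polar_add_left, polar_add_right, h.ee, efs, hd.1, comm2 (ev 2) d0, comm2 (fv 2) d0, hd0.1, hd0.2,
        hd1, add_zero, zero_add, c2]
    · simp only [polar_add_right, comm2 (ev 2) d0, comm2 (fv 2) d0, hd0.1, hd0.2, hd1, zero_add]
      exact one_ne_zero
    · intro v v1 v2 v3 v4 v5 v6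
      obtain ⟨a, b, hv⟩ := proj v v1 v2 v3 v4
      -- `polar (fv 2) v = polar (ev 2) v = b`
      have h5 : polar Q (ev 2) v + polar Q (fv 2) v = 0 := by rw [← polar_add_left]; exact v5
      have h6 : polar Q d0 v = b := by
        have h7 := congrArg (polar Q d0) hv
        simp only [polar_add_right, polar_smul_right, p00, hd1, comm2 (ev 2) d0, comm2 (fv 2) d0, hd0.1, hd0.2,
          smul_eq_mul, mul_zero, mul_one, add_zero, zero_add] at h7
        exact h7
      have h7 : polar Q (ev 2) v + b = 0 := by rw [← h6, ← polar_add_left]; exact v6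
      have h8 : polar Q (ev 2) v = b := by linear_combination h7 - b * h2
      have h9 : polar Q (fv 2) v = b := by linear_combination h5 - h8 - b * h2
      rw [h8, h9] at hv
      rw [hv, Submodule.mem_span_pair]
      exact ⟨a, b, by rw [smul_add, smul_add]; abel⟩
  · -- `d` nonsingular
    refine exists_b_conf h2 hF hG (u1 := d0) (u2 := d) (d0 := ev 2 + fv 2) (d := ev 2) h1
      hQ1 hQd hd1 ⟨hd0.1 _, hd0.2 _, hd0.1 _, hd0.2 _⟩ ⟨hd.1 _, hd.2 _, hd.1 _, hd.2 _⟩
      ⟨?_, ?_, ?_, ?_, ?_, ?_⟩ ⟨?_, ?_, ?_, ?_, ?_, ?_⟩ ?_ ?_ ?_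
    · rw [polar_add_right, h.ee, ef 0 2 ne02, add_zero]
    · rw [polar_add_right, h.ff, fe' 0 2 ne02, add_zero]
    · rw [polar_add_right, h.ee, ef 1 2 ne12, add_zero]
    · rw [polar_add_right, h.ff, fe' 1 2 ne12, add_zero]
    · rw [polar_add_right, polar_comm _ d0, polar_comm _ d0, hd0.1, hd0.2, add_zero]
    · rw [polar_add_right, polar_comm _ d, polar_comm _ d, hd.1, hd.2, add_zero]
    · exact h.ee _ _
    · exact fe' 0 2 ne02
    · exact h.ee _ _
    · exact fe' 1 2 ne12
    · rw [polar_comm]; exact hd0.1 _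
    · rw [polar_comm]; exact hd.1 _
    · rw [Q_add, h.Qe, h.Qf, efs]; simp
    · rw [polar_add_left, h.ee, fes, zero_add]; exact one_ne_zero
    · intro v v1 v2 v3 v4 v5 v6
      obtain ⟨a, b, hv⟩ := proj v v1 v2 v3 v4
      have h6 : polar Q d0 v = b := by
        have h7 := congrArg (polar Q d0) hv
        simp only [polar_add_right, polar_smul_right, p00, hd1, comm2 (ev 2) d0, comm2 (fv 2) d0, hd0.1, hd0.2,
          smul_eq_mul, mul_zero, mul_one, add_zero, zero_add] at h7
        exact h7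
      have h7 : polar Q d v = a := by
        have h7 := congrArg (polar Q d) hv
        simp only [polar_add_right, polar_smul_right, pdd, hd1', comm2 (ev 2) d, comm2 (fv 2) d, hd.1, hd.2,
          smul_eq_mul, mul_zero, mul_one, add_zero] at h7
        exact h7
      rw [v5] at h6
      rw [v6] at h7
      rw [← h6, ← h7, zero_smul, zero_smul, add_zero, zero_add] at hv
      rw [Submodule.mem_span_pair]
      refine ⟨polar Q (ev 2) v, polar Q (fv 2) v - polar Q (ev 2) v, ?_⟩
      calc polar Q (ev 2) v • (ev 2 + fv 2) + (polar Q (fv 2) v - polar Q (ev 2) v) • ev 2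
          = polar Q (fv 2) v • ev 2 + polar Q (ev 2) v • fv 2 := by
            rw [smul_add, sub_smul]
            abel
        _ = v := hv.symm

end Cfsg.Agent.H79.DG
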