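import Cfsg.Agent.H79.DG.Mono

/-!
# `E Q = ⟨mon, T(e_0, d), n⟩` (helper79, for `S4180`)
-/

set_option autoImplicit false

namespace Cfsg.Agent.H79.DG

open QuadraticMap Cfsg.Agent.LieClassical.OrthCore Cfsg.Agent.LieClassical.OrthTrans
  Cfsg.Agent.LieClassical.OrthSimple Cfsg.Agent.ClassicalGeometry.OrthAutBasic
  Cfsg.Agent.H887.SiegelMethod Cfsg.Agent.H137

variable {F V : Type*} [Field F] [AddCommGroup V] [Module F V] {Q : QuadraticForm F V}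

section

variable {ι : Type*} [Fintype ι] [DecidableEq ι] {ev fv : ι → V} {d0 : V}

theorem ne_zero_e (h : HypFam Q ev fv) (i : ι) : ev i ≠ 0 := by
  intro h0
  have h1 := h.ef i i
  rw [h0, polar_zero_left, if_pos rfl] at h1
  exact zero_ne_one h1

theorem ne_zero_f (h : HypFam Q ev fv) (i : ι) : fv i ≠ 0 := by
  intro h0
  have h1 := h.ef i i
  rw [h0, polar_zero_right, if_pos rfl] at h1
  exact zero_ne_one h1

theorem fe (h : HypFam Q ev fv) (i j : ι) : polar Q (fv i) (ev j) = if i = j then 1 else 0 := by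
  rw [polar_comm, h.ef]
  simp only [eq_comm]

theorem hyp2 (h : HypFam Q ev fv) {i j : ι} (hij : i ≠ j) : Hyp2 Q (ev i) (fv i) (ev j) (fv j) :=
  ⟨⟨h.Qe i, h.Qf i, by rw [h.ef, if_pos rfl]⟩, ⟨h.Qe j, h.Qf j, by rw [h.ef, if_pos rfl]⟩,
    h.ee i j, by rw [h.ef, if_neg hij], by rw [fe h, if_neg hij], h.ff i j⟩

/-- scaling of the second pair -/
theorem hyp2_smul {x x' y y' : V} (h : Hyp2 Q x x' y y') {c : F} (hc : c ≠ 0) :
    Hyp2 Q x x' (c • y) (c⁻¹ • y') := by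
  refine ⟨h.hx, ⟨?_, ?_, ?_⟩, ?_, ?_, ?_, ?_⟩
  · rw [QuadraticMap.map_smul, h.hy.left, smul_zero]
  · rw [QuadraticMap.map_smul, h.hy.right, smul_zero]
  · rw [polar_smul_left, polar_smul_right, h.hy.pair, smul_eq_mul, smul_eq_mul, mul_one, mul_inv_cancel₀ hc]
  · rw [polar_smul_right, h.xy, smul_zero]
  · rw [polar_smul_right, h.xy', smul_zero]
  · rw [polar_smul_right, h.x'y, smul_zero]
  · rw [polar_smul_right, h.x'y', smul_zero]

/-- torus elements -/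
noncomputable def hh (Q : QuadraticForm F V) (x x' y y' : V) (c : F) : V ≃ₗ[F] V :=
  (nn Q x x' y y')⁻¹ * nn Q x x' (c • y) (c⁻¹ • y')

theorem hh_mem_E (x x' y y' : V) (c : F) : hh Q x x' y y' c ∈ E Q :=
  E_mul ((E Q).inv_mem (nn_mem_E _ _ _ _)) (nn_mem_E _ _ _ _)

theorem hh_spec {x x' y y' : V} (h : Hyp2 Q x x' y y') {c : F} (hc : c ≠ 0) :
    hh Q x x' y y' c x = c • x ∧ hh Q x x' y y' c x' = c⁻¹ • x' ∧
      hh Q x x' y y' c y = c⁻¹ • y ∧ hh Q x x' y y' c y' = c • y' ∧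
      ∀ v, polar Q x v = 0 → polar Q x' v = 0 → polar Q y v = 0 → polar Q y' v = 0 → hh Q x x' y y' c v = v := by
  have hs := hyp2_smul h hc
  have hi : ∀ {a b : V}, nn Q x x' y y' a = b → (nn Q x x' y y')⁻¹ b = a := by
    intro a b hab
    rw [← hab]
    exact (nn Q x x' y y').symm_apply_apply a
  have key : ∀ v, hh Q x x' y y' c v = (nn Q x x' y y')⁻¹ (nn Q x x' (c • y) (c⁻¹ • y') v) := fun v => rfl
  have i1 : (nn Q x x' y y')⁻¹ y = x := hi (nn_x h)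
  have i2 : (nn Q x x' y y')⁻¹ y' = x' := hi (nn_x' h)
  have i3 : (nn Q x x' y y')⁻¹ x = -y := by
    have := hi (nn_y h)
    rw [map_neg] at this
    exact (neg_eq_iff_eq_neg).1 this
  have i4 : (nn Q x x' y y')⁻¹ x' = -y' := by
    have := hi (nn_y' h)
    rw [map_neg] at this
    exact (neg_eq_iff_eq_neg).1 this
  refine ⟨?_, ?_, ?_, ?_, ?_⟩
  · rw [key, nn_x hs, map_smul, i1]
  · rw [key, nn_x' hs, map_smul, i2]
  · have h1 := nn_y hs
    rw [map_smul] at h1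
    have h2 : nn Q x x' (c • y) (c⁻¹ • y') y = -(c⁻¹ • x) := by
      rw [← smul_neg, ← h1, smul_smul, inv_mul_cancel₀ hc, one_smul]
    rw [key, h2, map_neg, map_smul, i3, smul_neg, neg_neg]
  · have h1 := nn_y' hs
    rw [map_smul] at h1
    have h2 : nn Q x x' (c • y) (c⁻¹ • y') y' = -(c • x') := by
      rw [← smul_neg, ← h1, smul_smul, mul_inv_cancel₀ hc, one_smul]
    rw [key, h2, map_neg, map_smul, i4, smul_neg, neg_neg]
  · intro v h1 h2 h3 h4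
    have h5 : nn Q x x' (c • y) (c⁻¹ • y') v = v :=
      nn_fix hs h1 h2 (by rw [polar_smul_left, h3, smul_zero]) (by rw [polar_smul_left, h4, smul_zero])
    rw [key, h5]
    exact hi (nn_fix h h1 h2 h3 h4)

theorem hh_mem_mon (h : HypFam Q ev fv) {hQ0 : Q d0 ≠ 0} {hd0 : Perp Q ev fv d0} {i j : ι} (hij : i ≠ j) {c : F}
    (hc : c ≠ 0) : hh Q (ev i) (fv i) (ev j) (fv j) c ∈
      mon Q ev fv (ne_zero_e h) (ne_zero_f h) d0 hQ0 hd0 := by
  obtain ⟨h1, h2, h3, h4, h5⟩ := hh_spec (hyp2 h hij) hc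
  refine ⟨hh_mem_E _ _ _ _ _, fun l => ?_, Or.inl fun v hv => h5 v (hv.1 _) (hv.2 _) (hv.1 _) (hv.2 _)⟩
  left
  by_cases hli : l = i
  · subst hli
    exact ⟨⟨_, h1⟩, ⟨_, h2⟩⟩
  by_cases hlj : l = j
  · subst hlj
    exact ⟨⟨_, h3⟩, ⟨_, h4⟩⟩
  refine ⟨⟨1, ?_⟩, ⟨1, ?_⟩⟩
  · rw [one_smul]
    exact h5 _ (h.ee _ _) (by rw [fe h, if_neg (Ne.symm hli)]) (h.ee _ _) (by rw [fe h, if_neg (Ne.symm hlj)])
  · rw [one_smul]
    exact h5 _ (by rw [h.ef, if_neg (Ne.symm hli)]) (h.ff _ _) (by rw [h.ef, if_neg (Ne.symm hlj)]) (h.ff _ _)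

/-- the swaps -/
theorem exists_swap (hG : Good Q) (h : HypFam Q ev fv) {hQ0 : Q d0 ≠ 0} {hd0 : Perp Q ev fv d0} (i : ι) :
    ∃ r ∈ mon Q ev fv (ne_zero_e h) (ne_zero_f h) d0 hQ0 hd0, r (ev i) = -(Q d0 • fv i) ∧
      r (fv i) = -((Q d0)⁻¹ • ev i) ∧ (∀ j, j ≠ i → r (ev j) = ev j ∧ r (fv j) = fv j) ∧
      ∀ v, Perp Q ev fv v → r v = refl Q d0 hQ0 v := by
  have hyp : Hyp Q (ev i) (fv i) := ⟨h.Qe i, h.Qf i, by rw [h.ef, if_pos rfl]⟩
  obtain ⟨r, hrE, hre, hrf, hr⟩ := exists_rr hG hyp (hd0.1 i) (hd0.2 i) hQ0 rfl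
  have hj : ∀ j, j ≠ i → r (ev j) = ev j ∧ r (fv j) = fv j := by
    intro j hj
    constructor
    · rw [hr _ (h.ee _ _) (by rw [fe h, if_neg (Ne.symm hj)]), polar_comm, hd0.1, mul_zero, zero_smul, sub_zero]
    · rw [hr _ (by rw [h.ef, if_neg (Ne.symm hj)]) (h.ff _ _), polar_comm, hd0.2, mul_zero, zero_smul, sub_zero]
  have hP : ∀ v, Perp Q ev fv v → r v = refl Q d0 hQ0 v := fun v hv => by
    rw [hr v (hv.1 i) (hv.2 i), refl_apply]
  refine ⟨r, ⟨hrE, fun l => ?_, Or.inr hP⟩, hre, hrf, hj, hP⟩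
  by_cases hli : l = i
  · subst hli
    exact Or.inr ⟨⟨-(Q d0), by rw [hre, neg_smul]⟩, ⟨-((Q d0)⁻¹), by rw [hrf, neg_smul]⟩⟩
  · obtain ⟨h1, h2⟩ := hj l hli
    exact Or.inl ⟨⟨1, by rw [h1, one_smul]⟩, ⟨1, by rw [h2, one_smul]⟩⟩

/-- `e_j, f_j ∈ Ts x` from the values on the orthogonal complement -/
theorem mem_Ts_of {H : Subgroup (V ≃ₗ[F] V)} {x y a b : V} (hx : Q x = 0) (hy : Q y = 0) (hxy : polar Q x y = 0)
    (hxa : polar Q x a = 0) (hya : polar Q y a = 0) (hxb : polar Q x b = 0) (hyb : polar Q y b = 0)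
    (hab : polar Q a b ≠ 0) (h1 : T Q y a ∈ H) (h2 : b ∈ Ts Q H x) : y ∈ Ts Q H x := by
  refine ⟨hxy, fun s => ?_⟩
  have h3 := comm_T (H := H) hy hx (by rw [polar_comm]; exact hxy) hya hxa
    (b := (s * (polar Q a b)⁻¹) • b) (by rw [polar_smul_right, hyb, smul_zero])
    (by rw [polar_smul_right, hxb, smul_zero]) h1 (h2.2 _)
  rw [polar_smul_right, smul_eq_mul, mul_assoc, inv_mul_cancel₀ hab, mul_one] at h3
  exact h3

end

theorem E_le_mono [FiniteDimensional F V] (hG : Good Q) {k : ℕ} (hk : 1 ≤ k) {ev fv : Fin (k + 1) → V}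
    (h : HypFam Q ev fv) {d0 d : V} (hd0 : Perp Q ev fv d0) (hd : Perp Q ev fv d)
    (hQ0 : Q d0 ≠ 0) (hdd : polar Q d0 d ≠ 0) (hspan : ∀ v, Perp Q ev fv v → v ∈ Submodule.span F {d0, d})
    {n : V ≃ₗ[F] V} (hnE : n ∈ E Q) (hn0 : n (ev 0) = ev (Fin.last k))
    (hn1 : ∀ i : Fin k, n (ev i.succ) = - ev i.castSucc) (hnP : ∀ v, Perp Q ev fv v → n v = v) :
    E Q ≤ mon Q ev fv (ne_zero_e h) (ne_zero_f h) d0 hQ0 hd0 ⊔ Subgroup.closure {T Q (ev 0) d, n} := by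
  set M := mon Q ev fv (ne_zero_e h) (ne_zero_f h) d0 hQ0 hd0 with hM
  set H := M ⊔ Subgroup.closure {T Q (ev 0) d, n} with hH
  have hMH : M ≤ H := le_sup_left
  have hτ : T Q (ev 0) d ∈ H := (le_sup_right : _ ≤ H) (Subgroup.subset_closure (by simp))
  have hn : n ∈ H := (le_sup_right : _ ≤ H) (Subgroup.subset_closure (by simp))
  have hnO : n ∈ O Q := E_le_O hnE
  have hME : M ≤ E Q := fun g hg => hg.1
  set i1 : Fin (k + 1) := ⟨1, by omega⟩ with hi1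
  have h01 : (0 : Fin (k + 1)) ≠ i1 := by
    intro h0
    have := congrArg Fin.val h0
    simp [hi1] at this
  -- full root group of `d`
  have hde : d ∈ Ts Q H (ev 0) := by
    refine ⟨hd.1 0, fun c => ?_⟩
    by_cases hc : c = 0
    · rw [hc, zero_smul, T_zero_right]; exact H.one_mem
    have h1 := hh_mem_mon h (hQ0 := hQ0) (hd0 := hd0) h01 hc
    obtain ⟨s1, -, -, -, s5⟩ := hh_spec (hyp2 h h01) hc
    have h2 := H.mul_mem (H.mul_mem (hMH h1) hτ) (H.inv_mem (hMH h1))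
    rwa [T_conj (E_le_O h1.1), s1, s5 d (hd.1 _) (hd.2 _) (hd.1 _) (hd.2 _),
      T_smul_left c (h.Qe 0) (hd.1 0)] at h2
  -- the other vector
  obtain ⟨r1, hr1, -, -, r1f, r1P⟩ := exists_swap hG h (hQ0 := hQ0) (hd0 := hd0) i1
  have hd'e : refl Q d0 hQ0 d ∈ Ts Q H (ev 0) := by
    have h1 := map_mem_Ts (hMH hr1) (E_le_O hr1.1) hde
    rwa [(r1f 0 h01).1, r1P d hd] at h1
  have hd0e : d0 ∈ Ts Q H (ev 0) := by
    have hk' : ((Q d0)⁻¹ * polar Q d0 d) ≠ 0 := mul_ne_zero (inv_ne_zero hQ0) hdd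
    have e : d0 = ((Q d0)⁻¹ * polar Q d0 d)⁻¹ • d - ((Q d0)⁻¹ * polar Q d0 d)⁻¹ • (refl Q d0 hQ0 d) := by
      rw [refl_apply, ← smul_sub, sub_sub_cancel, smul_smul, inv_mul_cancel₀ hk', one_smul]
    rw [e]
    exact Submodule.sub_mem _ (Submodule.smul_mem _ _ hde) (Submodule.smul_mem _ _ hd'e)
  have hP0 : ∀ v, Perp Q ev fv v → v ∈ Ts Q H (ev 0) := by
    intro v hv
    refine (Submodule.span_le.2 ?_) (hspan v hv)
    rintro x (rfl | rfl)
    · exact hd0e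
    · exact hde
  -- all `e_i`
  have hPe : ∀ j : ℕ, ∀ hj : j < k + 1, ∀ v, Perp Q ev fv v → v ∈ Ts Q H (ev ⟨k - j, by omega⟩) := by
    intro j
    induction j with
    | zero =>
      intro hj v hv
      have h1 := map_mem_Ts hn hnO (hP0 v hv)
      rw [hn0, hnP v hv] at h1
      exact h1
    | succ j ih =>
      intro hj v hv
      have h1 := map_mem_Ts hn hnO (ih (by omega) v hv)
      have h2 := hn1 ⟨k - (j + 1), by omega⟩
      have h3 : (⟨k - (j + 1), by omega⟩ : Fin k).succ = ⟨k - j, by omega⟩ := by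
        apply Fin.ext
        show k - (j + 1) + 1 = k - j
        omega
      rw [h3] at h2
      rw [h2, hnP v hv, ← neg_one_smul F, Ts_smul (neg_ne_zero.2 one_ne_zero) (h.Qe _)] at h1
      exact h1
  have hPe' : ∀ i, ∀ v, Perp Q ev fv v → v ∈ Ts Q H (ev i) := by
    intro i v hv
    have h1 := hPe (k - i) (by omega) v hv
    have h2 : (⟨k - (k - i), by omega⟩ : Fin (k + 1)) = i := by
      apply Fin.ext
      show k - (k - (i : ℕ)) = i
      have := i.2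
      omega
    rwa [h2] at h1
  -- all `f_i`
  have hPf : ∀ i, ∀ v, Perp Q ev fv v → v ∈ Ts Q H (fv i) := by
    intro i v hv
    obtain ⟨r, hr, re, -, -, rP⟩ := exists_swap hG h (hQ0 := hQ0) (hd0 := hd0) i
    have h1 := map_mem_Ts (hMH hr) (E_le_O hr.1) (hPe' i _ (hd0.refl hQ0 hv))
    have h2 : refl Q d0 hQ0 (refl Q d0 hQ0 v) = v :=
      congrArg (fun z : V ≃ₗ[F] V => z v) (refl_mul_self (Q := Q) hQ0)
    rw [re, rP _ (hd0.refl hQ0 hv), h2, ← neg_smul, Ts_smul (neg_ne_zero.2 hQ0) (h.Qf _)] at h1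
    exact h1
  -- conclusion
  have hex : ∀ v, v = (v - ∑ i, polar Q (fv i) v • ev i - ∑ i, polar Q (ev i) v • fv i) +
      ∑ i, polar Q (fv i) v • ev i + ∑ i, polar Q (ev i) v • fv i := fun v => by abel
  refine E_le_of_Ts hG (h.Qe 0) (h.Qf 0) (by rw [h.ef, if_pos rfl]; exact one_ne_zero) ?_ ?_
  · intro v hv
    rw [hex v]
    refine Submodule.add_mem _ (Submodule.add_mem _ (hP0 _ (perp_sub h v)) ?_) ?_
    · refine Submodule.sum_mem _ fun i _ => Submodule.smul_mem _ _ ?_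
      by_cases hi : i = 0
      · rw [hi]; exact self_mem_Ts (h.Qe 0)
      · exact mem_Ts_of (h.Qe 0) (h.Qe i) (h.ee _ _) (hd0.1 _) (hd0.1 _) (hd.1 _) (hd.1 _) hdd
          (Ts_mem (hPe' i _ hd0)) hde
    · refine Submodule.sum_mem _ fun i _ => ?_
      by_cases hi : i = 0
      · rw [hi, hv, zero_smul]; exact Submodule.zero_mem _
      · refine Submodule.smul_mem _ _ ?_
        exact mem_Ts_of (h.Qe 0) (h.Qf i) (by rw [h.ef, if_neg (Ne.symm hi)]) (hd0.1 _) (hd0.2 _) (hd.1 _)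
          (hd.2 _) hdd (Ts_mem (hPf i _ hd0)) hde
  · intro v hv
    rw [hex v]
    refine Submodule.add_mem _ (Submodule.add_mem _ (hPf 0 _ (perp_sub h v)) ?_) ?_
    · refine Submodule.sum_mem _ fun i _ => ?_
      by_cases hi : i = 0
      · rw [hi, hv, zero_smul]; exact Submodule.zero_mem _
      · refine Submodule.smul_mem _ _ ?_
        exact mem_Ts_of (h.Qf 0) (h.Qe i) (by rw [fe h, if_neg (Ne.symm hi)]) (hd0.2 _) (hd0.1 _) (hd.2 _)
          (hd.1 _) hdd (Ts_mem (hPe' i _ hd0)) (hPf 0 _ hd)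
    · refine Submodule.sum_mem _ fun i _ => Submodule.smul_mem _ _ ?_
      by_cases hi : i = 0
      · rw [hi]; exact self_mem_Ts (h.Qf 0)
      · exact mem_Ts_of (h.Qf 0) (h.Qf i) (h.ff _ _) (hd0.2 _) (hd0.2 _) (hd.2 _) (hd.2 _) hdd
          (Ts_mem (hPf i _ hd0)) (hPf 0 _ hd)

end Cfsg.Agent.H79.DG
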