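import Mathlib
import Cfsg.Agent.H137.Fam

/-!
# Monomial generation of `E Q` in odd characteristic (helper79, for `S4180`, tasks 3329-3331)

`V = ⊕ ⟨e_i, f_i⟩ ⊥ D`, `D = ⟨d0, d⟩`.  `mon` is the group of the elements of `E Q` which preserve the pairs
`{F e_i, F f_i}` and act on `D` as `1` or as the reflection in `d0`.  `E Q = ⟨mon, T(e_0, d), n⟩`, where `n` permutes
the pairs cyclically.
-/

set_option autoImplicit false

namespace Cfsg.Agent.H79.DG

open QuadraticMap Cfsg.Agent.LieClassical.OrthCore Cfsg.Agent.LieClassical.OrthTrans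
  Cfsg.Agent.LieClassical.OrthSimple Cfsg.Agent.ClassicalGeometry.OrthAutBasic
  Cfsg.Agent.H887.SiegelMethod Cfsg.Agent.H137

variable {F V : Type*} [Field F] [AddCommGroup V] [Module F V] {Q : QuadraticForm F V}

/-- orthogonal to a family of pairs -/
def Perp (Q : QuadraticForm F V) {ι : Type*} (ev fv : ι → V) (v : V) : Prop :=
  (∀ i, polar Q (ev i) v = 0) ∧ ∀ i, polar Q (fv i) v = 0

section fam

variable {ι : Type*} {ev fv : ι → V}

theorem Perp.add {v w : V} (hv : Perp Q ev fv v) (hw : Perp Q ev fv w) : Perp Q ev fv (v + w) :=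
  ⟨fun i => by rw [polar_add_right, hv.1, hw.1, add_zero], fun i => by rw [polar_add_right, hv.2, hw.2, add_zero]⟩

theorem Perp.smul {v : V} (c : F) (hv : Perp Q ev fv v) : Perp Q ev fv (c • v) :=
  ⟨fun i => by rw [polar_smul_right, hv.1, smul_zero], fun i => by rw [polar_smul_right, hv.2, smul_zero]⟩

theorem Perp.sub {v w : V} (hv : Perp Q ev fv v) (hw : Perp Q ev fv w) : Perp Q ev fv (v - w) :=
  ⟨fun i => by rw [polar_sub_right, hv.1, hw.1, sub_zero], fun i => by rw [polar_sub_right, hv.2, hw.2, sub_zero]⟩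

variable [Fintype ι] [DecidableEq ι]

/-- the projection to the orthogonal complement -/
theorem perp_sub (h : HypFam Q ev fv) (v : V) :
    Perp Q ev fv (v - ∑ i, polar Q (fv i) v • ev i - ∑ i, polar Q (ev i) v • fv i) := by
  have key : ∀ (u : V) (c : ι → F) (w : ι → V), polar Q u (∑ i, c i • w i) = ∑ i, c i * polar Q u (w i) := by
    intro u c w
    have h1 := map_sum (QuadraticMap.polarBilin Q u) (fun i => c i • w i) Finset.univ
    simp only [polarBilin_apply_apply, polar_smul_right, smul_eq_mul] at h1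
    exact h1
  have hfe : ∀ i j, polar Q (fv i) (ev j) = if i = j then 1 else 0 := fun i j => by
    rw [polar_comm, h.ef]
    simp only [eq_comm]
  refine ⟨fun i => ?_, fun i => ?_⟩
  · rw [polar_sub_right, polar_sub_right, key, key, Finset.sum_eq_zero (fun j _ => by rw [h.ee, mul_zero]),
      Finset.sum_eq_single i (fun j _ hj => by rw [h.ef, if_neg (Ne.symm hj), mul_zero]) (by simp), h.ef, if_pos rfl]
    ring
  · rw [polar_sub_right, polar_sub_right, key, key,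
      Finset.sum_eq_single i (fun j _ hj => by rw [hfe, if_neg (Ne.symm hj), mul_zero]) (by simp),
      Finset.sum_eq_zero (fun j _ => by rw [h.ff, mul_zero]), hfe, if_pos rfl]
    ring

end fam

/-! ### the monomial group -/

section mon

variable {ι : Type*} {ev fv : ι → V} {d0 : V}

/-- `g` preserves the pair `{F e_i, F f_i}` -/
def PairOk (ev fv : ι → V) (g : V ≃ₗ[F] V) (i : ι) : Prop :=
  ((∃ a : F, g (ev i) = a • ev i) ∧ ∃ b : F, g (fv i) = b • fv i) ∨
    ((∃ a : F, g (ev i) = a • fv i) ∧ ∃ b : F, g (fv i) = b • ev i)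

theorem PairOk.mul {g g' : V ≃ₗ[F] V} {i : ι} (h : PairOk ev fv g i) (h' : PairOk ev fv g' i) :
    PairOk ev fv (g * g') i := by
  have key : ∀ v, (g * g') v = g (g' v) := fun v => rfl
  rcases h with ⟨⟨a, ha⟩, b, hb⟩ | ⟨⟨a, ha⟩, b, hb⟩ <;> rcases h' with ⟨⟨a', ha'⟩, b', hb'⟩ | ⟨⟨a', ha'⟩, b', hb'⟩
  · exact Or.inl ⟨⟨a' * a, by rw [key, ha', map_smul, ha, smul_smul]⟩, ⟨b' * b, by rw [key, hb', map_smul, hb, smul_smul]⟩⟩
  · exact Or.inr ⟨⟨a' * b, by rw [key, ha', map_smul, hb, smul_smul]⟩, ⟨b' * a, by rw [key, hb', map_smul, ha, smul_smul]⟩⟩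
  · exact Or.inr ⟨⟨a' * a, by rw [key, ha', map_smul, ha, smul_smul]⟩, ⟨b' * b, by rw [key, hb', map_smul, hb, smul_smul]⟩⟩
  · exact Or.inl ⟨⟨a' * b, by rw [key, ha', map_smul, hb, smul_smul]⟩, ⟨b' * a, by rw [key, hb', map_smul, ha, smul_smul]⟩⟩

theorem inv_smul_of {g : V ≃ₗ[F] V} {x y : V} {a : F} (hx : x ≠ 0) (h : g x = a • y) : g⁻¹ y = a⁻¹ • x := by
  have ha : a ≠ 0 := by
    rintro rfl
    rw [zero_smul] at h
    exact hx (g.injective (by rw [h, map_zero]))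
  have h1 : g (a⁻¹ • x) = y := by rw [map_smul, h, smul_smul, inv_mul_cancel₀ ha, one_smul]
  rw [← h1]
  exact g.symm_apply_apply _

theorem PairOk.inv {g : V ≃ₗ[F] V} {i : ι} (he : ev i ≠ 0) (hf : fv i ≠ 0) (h : PairOk ev fv g i) :
    PairOk ev fv g⁻¹ i := by
  rcases h with ⟨⟨a, ha⟩, b, hb⟩ | ⟨⟨a, ha⟩, b, hb⟩
  · exact Or.inl ⟨⟨_, inv_smul_of he ha⟩, ⟨_, inv_smul_of hf hb⟩⟩
  · exact Or.inr ⟨⟨_, inv_smul_of hf hb⟩, ⟨_, inv_smul_of he ha⟩⟩

theorem Perp.refl {v : V} (hd0 : Perp Q ev fv d0) (hQ0 : Q d0 ≠ 0) (hv : Perp Q ev fv v) :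
    Perp Q ev fv (refl Q d0 hQ0 v) := by
  rw [refl_apply]
  exact hv.sub (hd0.smul _)

/-- the monomial group -/
def mon (Q : QuadraticForm F V) (ev fv : ι → V) (he : ∀ i, ev i ≠ 0) (hf : ∀ i, fv i ≠ 0) (d0 : V)
    (hQ0 : Q d0 ≠ 0) (hd0 : Perp Q ev fv d0) : Subgroup (V ≃ₗ[F] V) where
  carrier := {g | g ∈ E Q ∧ (∀ i, PairOk ev fv g i) ∧
    ((∀ v, Perp Q ev fv v → g v = v) ∨ ∀ v, Perp Q ev fv v → g v = refl Q d0 hQ0 v)}
  one_mem' := ⟨(E Q).one_mem, fun i => Or.inl ⟨⟨1, (one_smul _ _).symm⟩, ⟨1, (one_smul _ _).symm⟩⟩,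
    Or.inl fun v _ => rfl⟩
  mul_mem' := by
    rintro g g' ⟨h1, h2, h3⟩ ⟨h1', h2', h3'⟩
    refine ⟨(E Q).mul_mem h1 h1', fun i => (h2 i).mul (h2' i), ?_⟩
    have key : ∀ v, (g * g') v = g (g' v) := fun v => rfl
    rcases h3 with h3 | h3 <;> rcases h3' with h3' | h3'
    · exact Or.inl fun v hv => by rw [key, h3' v hv, h3 v hv]
    · exact Or.inr fun v hv => by rw [key, h3' v hv, h3 _ (hd0.refl hQ0 hv)]
    · exact Or.inr fun v hv => by rw [key, h3' v hv, h3 v hv]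
    · refine Or.inl fun v hv => ?_
      rw [key, h3' v hv, h3 _ (hd0.refl hQ0 hv)]
      exact congrArg (fun z : V ≃ₗ[F] V => z v) (refl_mul_self (Q := Q) hQ0)
  inv_mem' := by
    rintro g ⟨h1, h2, h3⟩
    refine ⟨(E Q).inv_mem h1, fun i => (h2 i).inv (he i) (hf i), ?_⟩
    have key : ∀ v, g⁻¹ (g v) = v := fun v => g.symm_apply_apply v
    rcases h3 with h3 | h3
    · exact Or.inl fun v hv => by
        have := key v
        rwa [h3 v hv] at this
    · refine Or.inr fun v hv => ?_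
      have h4 := key (refl Q d0 hQ0 v)
      rw [h3 _ (hd0.refl hQ0 hv)] at h4
      have h5 : refl Q d0 hQ0 (refl Q d0 hQ0 v) = v :=
        congrArg (fun z : V ≃ₗ[F] V => z v) (refl_mul_self (Q := Q) hQ0)
      rwa [h5] at h4

theorem mem_mon {he : ∀ i, ev i ≠ 0} {hf : ∀ i, fv i ≠ 0} {hQ0 : Q d0 ≠ 0} {hd0 : Perp Q ev fv d0}
    {g : V ≃ₗ[F] V} : g ∈ mon Q ev fv he hf d0 hQ0 hd0 ↔ g ∈ E Q ∧ (∀ i, PairOk ev fv g i) ∧
    ((∀ v, Perp Q ev fv v → g v = v) ∨ ∀ v, Perp Q ev fv v → g v = refl Q d0 hQ0 v) := Iff.rfl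

theorem pow_apply_succ (g : V ≃ₗ[F] V) (n : ℕ) (v : V) : (g ^ (n + 1)) v = g ((g ^ n) v) := by
  rw [pow_succ']; rfl

/-- elements of order `p` of the monomial group are trivial -/
theorem mon_pow [Fintype ι] [DecidableEq ι] {p : ℕ} [Fact p.Prime] [CharP F p] (hp2 : p ≠ 2)
    (h : HypFam Q ev fv) {he : ∀ i, ev i ≠ 0} {hf : ∀ i, fv i ≠ 0} {hQ0 : Q d0 ≠ 0} {hd0 : Perp Q ev fv d0}
    {g : V ≃ₗ[F] V} (hg : g ∈ mon Q ev fv he hf d0 hQ0 hd0) (hgp : g ^ p = 1) : g = 1 := by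
  have hp : p.Prime := Fact.out
  obtain ⟨j, hj⟩ : Odd p := hp.odd_of_ne_two hp2
  obtain ⟨-, h2, h3⟩ := hg
  have hgp' : ∀ v, (g ^ p) v = v := fun v => by rw [hgp]; rfl
  have one_of : ∀ a : F, a ^ p = 1 → a = 1 := by
    intro a ha
    have : (a - 1) ^ p = 0 := by rw [sub_pow_char, ha, one_pow, sub_self]
    exact sub_eq_zero.1 (pow_eq_zero_iff (hp.ne_zero) |>.1 this)
  have hline : ∀ (x : V) (a : F), g x = a • x → ∀ n : ℕ, (g ^ n) x = a ^ n • x := by
    intro x a hx n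
    induction n with
    | zero => rw [pow_zero, pow_zero, one_smul]; rfl
    | succ n ih => rw [pow_apply_succ, ih, map_smul, hx, smul_smul, ← pow_succ]
  have hdiag : ∀ (x : V) (a : F), x ≠ 0 → g x = a • x → g x = x := by
    intro x a hx0 hx
    have h4 := hline x a hx p
    rw [hgp'] at h4
    have h5 : (a ^ p - 1) • x = 0 := by rw [sub_smul, ← h4, one_smul, sub_self]
    have h6 := one_of a (sub_eq_zero.1 ((smul_eq_zero.1 h5).resolve_right hx0))
    rw [hx, h6, one_smul]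
  have hfix : ∀ i, g (ev i) = ev i ∧ g (fv i) = fv i := by
    intro i
    rcases h2 i with ⟨⟨a, ha⟩, b, hb⟩ | ⟨⟨a, ha⟩, b, hb⟩
    · exact ⟨hdiag _ a (he i) ha, hdiag _ b (hf i) hb⟩
    · exfalso
      -- `g ^ p` swaps the lines
      have h4 : (g ^ 2) (ev i) = (a * b) • ev i := by
        rw [pow_two]
        show g (g (ev i)) = _
        rw [ha, map_smul, hb, smul_smul]
      have h5 : ∀ n : ℕ, ((g ^ 2) ^ n) (ev i) = (a * b) ^ n • ev i := by
        intro n
        induction n with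
        | zero => rw [pow_zero, pow_zero, one_smul]; rfl
        | succ n ih => rw [pow_apply_succ, ih, map_smul, h4, smul_smul, ← pow_succ]
      have h6 := hgp' (ev i)
      rw [hj, pow_apply_succ, pow_mul, h5, map_smul, ha, smul_smul] at h6
      have h7 : polar Q (ev i) (fv i) = 0 := by
        rw [← h6, polar_smul_left, h.ff, smul_zero]
      rw [h.ef, if_pos rfl] at h7
      exact one_ne_zero h7
  have hD : ∀ v, Perp Q ev fv v → g v = v := by
    rcases h3 with h3 | h3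
    · exact h3
    · intro v hv
      have h4 : ∀ n : ℕ, (g ^ (2 * n)) v = v := by
        intro n
        induction n with
        | zero => rw [mul_zero, pow_zero]; rfl
        | succ n ih =>
          rw [mul_add, mul_one, pow_apply_succ, pow_apply_succ, ih, h3 v hv, h3 _ (hd0.refl hQ0 hv)]
          exact congrArg (fun z : V ≃ₗ[F] V => z v) (refl_mul_self (Q := Q) hQ0)
      have h5 := hgp' v
      rwa [hj, pow_apply_succ, h4] at h5
  ext v
  show g v = v
  have h4 := hD _ (perp_sub h v)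
  rw [map_sub, map_sub, map_sum, map_sum] at h4
  simp only [map_smul, (hfix _).1, (hfix _).2] at h4
  have h5 := sub_left_injective h4
  exact sub_left_injective h5

theorem mon_not_dvd [Fintype ι] [DecidableEq ι] [Finite V] {p : ℕ} [Fact p.Prime] [CharP F p] (hp2 : p ≠ 2)
    (h : HypFam Q ev fv) {he : ∀ i, ev i ≠ 0} {hf : ∀ i, fv i ≠ 0} {hQ0 : Q d0 ≠ 0} {hd0 : Perp Q ev fv d0} :
    ¬ p ∣ Nat.card (mon Q ev fv he hf d0 hQ0 hd0) := by
  intro hd
  have : Finite (V ≃ₗ[F] V) := Finite.of_injective (fun g : V ≃ₗ[F] V => (g : V → V)) DFunLike.coe_injective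
  obtain ⟨g, hg⟩ := exists_prime_orderOf_dvd_card' p hd
  have h1 : (g : V ≃ₗ[F] V) ^ p = 1 := by
    rw [← Subgroup.coe_pow, ← hg, pow_orderOf_eq_one]; rfl
  have h2 := mon_pow hp2 h g.2 h1
  have h3 : g = 1 := Subtype.ext h2
  rw [h3, orderOf_one] at hg
  exact (Fact.out : p.Prime).one_lt.ne hg

end mon

/-! ### the cyclic permutation of the pairs -/

section cyc

/-- `N_j` : `e_0 ↦ e_j`, `e_i ↦ -e_{i-1}` for `1 ≤ i ≤ j` -/
noncomputable def NN (Q : QuadraticForm F V) (e f : ℕ → V) : ℕ → (V ≃ₗ[F] V)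
  | 0 => 1
  | j + 1 => nn Q (e j) (f j) (e (j + 1)) (f (j + 1)) * NN Q e f j

theorem NN_mem_E (e f : ℕ → V) (j : ℕ) : NN Q e f j ∈ E Q := by
  induction j with
  | zero => exact (E Q).one_mem
  | succ j ih => exact E_mul (nn_mem_E _ _ _ _) ih

/-- hyperbolic pairs with indices `≤ k` -/
structure HypN (Q : QuadraticForm F V) (e f : ℕ → V) (k : ℕ) : Prop where
  Qe : ∀ i ≤ k, Q (e i) = 0
  Qf : ∀ i ≤ k, Q (f i) = 0
  ee : ∀ i ≤ k, ∀ j ≤ k, polar Q (e i) (e j) = 0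
  ff : ∀ i ≤ k, ∀ j ≤ k, polar Q (f i) (f j) = 0
  ef : ∀ i ≤ k, ∀ j ≤ k, polar Q (e i) (f j) = if i = j then 1 else 0

variable {e f : ℕ → V} {k : ℕ}

theorem HypN.fe (h : HypN Q e f k) : ∀ i ≤ k, ∀ j ≤ k, polar Q (f i) (e j) = if i = j then 1 else 0 := by
  intro i hi j hj
  rw [polar_comm, h.ef j hj i hi]
  simp only [eq_comm]

theorem HypN.hyp2 (h : HypN Q e f k) {i j : ℕ} (hi : i ≤ k) (hj : j ≤ k) (hij : i ≠ j) :
    Hyp2 Q (e i) (f i) (e j) (f j) :=
  ⟨⟨h.Qe i hi, h.Qf i hi, by rw [h.ef i hi i hi, if_pos rfl]⟩, ⟨h.Qe j hj, h.Qf j hj, by rw [h.ef j hj j hj, if_pos rfl]⟩,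
    h.ee i hi j hj, by rw [h.ef i hi j hj, if_neg hij], by rw [h.fe i hi j hj, if_neg hij], h.ff i hi j hj⟩

theorem NN_perp (h : HypN Q e f k) {v : V} (h1 : ∀ i ≤ k, polar Q (e i) v = 0) (h2 : ∀ i ≤ k, polar Q (f i) v = 0)
    {j : ℕ} (hj : j ≤ k) : NN Q e f j v = v := by
  induction j with
  | zero => rfl
  | succ j ih =>
    show nn Q (e j) (f j) (e (j + 1)) (f (j + 1)) (NN Q e f j v) = v
    rw [ih (by omega), nn_fix (h.hyp2 (by omega) hj (by omega)) (h1 _ (by omega)) (h2 _ (by omega)) (h1 _ hj) (h2 _ hj)]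

theorem NN_gt (h : HypN Q e f k) {j : ℕ} (hj : j ≤ k) : ∀ i ≤ k, j < i → NN Q e f j (e i) = e i ∧ NN Q e f j (f i) = f i := by
  induction j with
  | zero => intro i _ _; exact ⟨rfl, rfl⟩
  | succ j ih =>
    intro i hi hji
    obtain ⟨h1, h2⟩ := ih (by omega) i hi (by omega)
    have h3 := h.hyp2 (i := j) (j := j + 1) (by omega) hj (by omega)
    refine ⟨?_, ?_⟩
    · show nn Q (e j) (f j) (e (j + 1)) (f (j + 1)) (NN Q e f j (e i)) = e i
      rw [h1, nn_fix h3 (h.ee _ (by omega) _ hi) (by rw [h.fe _ (by omega) _ hi, if_neg (by omega)]) (h.ee _ hj _ hi)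
        (by rw [h.fe _ hj _ hi, if_neg (by omega)])]
    · show nn Q (e j) (f j) (e (j + 1)) (f (j + 1)) (NN Q e f j (f i)) = f i
      rw [h2, nn_fix h3 (by rw [h.ef _ (by omega) _ hi, if_neg (by omega)]) (h.ff _ (by omega) _ hi)
        (by rw [h.ef _ hj _ hi, if_neg (by omega)]) (h.ff _ hj _ hi)]

theorem NN_zero (h : HypN Q e f k) {j : ℕ} (hj : j ≤ k) : NN Q e f j (e 0) = e j ∧ NN Q e f j (f 0) = f j := by
  induction j with
  | zero => exact ⟨rfl, rfl⟩
  | succ j ih =>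
    obtain ⟨h1, h2⟩ := ih (by omega)
    have h3 := h.hyp2 (i := j) (j := j + 1) (by omega) hj (by omega)
    refine ⟨?_, ?_⟩
    · show nn Q (e j) (f j) (e (j + 1)) (f (j + 1)) (NN Q e f j (e 0)) = e (j + 1)
      rw [h1, nn_x h3]
    · show nn Q (e j) (f j) (e (j + 1)) (f (j + 1)) (NN Q e f j (f 0)) = f (j + 1)
      rw [h2, nn_x' h3]

theorem NN_le (h : HypN Q e f k) {j : ℕ} (hj : j ≤ k) : ∀ i < j, NN Q e f j (e (i + 1)) = - e i ∧
    NN Q e f j (f (i + 1)) = - f i := by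
  induction j with
  | zero => intro i hi; omega
  | succ j ih =>
    intro i hi
    have h3 := h.hyp2 (i := j) (j := j + 1) (by omega) hj (by omega)
    rcases Nat.lt_or_ge i j with hij | hij
    · obtain ⟨h1, h2⟩ := ih (by omega) i hij
      refine ⟨?_, ?_⟩
      · show nn Q (e j) (f j) (e (j + 1)) (f (j + 1)) (NN Q e f j (e (i + 1))) = - e i
        rw [h1, map_neg, nn_fix h3 (h.ee _ (by omega) _ (by omega))
          (by rw [h.fe _ (by omega) _ (by omega), if_neg (by omega)]) (h.ee _ hj _ (by omega))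
          (by rw [h.fe _ hj _ (by omega), if_neg (by omega)])]
      · show nn Q (e j) (f j) (e (j + 1)) (f (j + 1)) (NN Q e f j (f (i + 1))) = - f i
        rw [h2, map_neg, nn_fix h3 (by rw [h.ef _ (by omega) _ (by omega), if_neg (by omega)])
          (h.ff _ (by omega) _ (by omega)) (by rw [h.ef _ hj _ (by omega), if_neg (by omega)])
          (h.ff _ hj _ (by omega))]
    · obtain rfl : i = j := by omega
      obtain ⟨h1, h2⟩ := NN_gt h (j := i) (by omega) (i + 1) hj (by omega)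
      refine ⟨?_, ?_⟩
      · show nn Q (e i) (f i) (e (i + 1)) (f (i + 1)) (NN Q e f i (e (i + 1))) = - e i
        rw [h1, nn_y h3]
      · show nn Q (e i) (f i) (e (i + 1)) (f (i + 1)) (NN Q e f i (f (i + 1))) = - f i
        rw [h2, nn_y' h3]

/-- the cyclic permutation of a family indexed by `Fin (k + 1)` -/
theorem exists_cyc {k : ℕ} {ev fv : Fin (k + 1) → V} (h : HypFam Q ev fv) :
    ∃ n ∈ E Q, n (ev 0) = ev (Fin.last k) ∧ n (fv 0) = fv (Fin.last k) ∧
      (∀ i : Fin k, n (ev i.succ) = - ev i.castSucc ∧ n (fv i.succ) = - fv i.castSucc) ∧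
      ∀ v, Perp Q ev fv v → n v = v := by
  set e : ℕ → V := fun i => if h : i < k + 1 then ev ⟨i, h⟩ else 0 with he
  set f : ℕ → V := fun i => if h : i < k + 1 then fv ⟨i, h⟩ else 0 with hf
  have e1 : ∀ i (hi : i < k + 1), e i = ev ⟨i, hi⟩ := fun i hi => by rw [he]; simp [hi]
  have f1 : ∀ i (hi : i < k + 1), f i = fv ⟨i, hi⟩ := fun i hi => by rw [hf]; simp [hi]
  have hN : HypN Q e f k := by
    refine ⟨fun i hi => ?_, fun i hi => ?_, fun i hi j hj => ?_, fun i hi j hj => ?_, fun i hi j hj => ?_⟩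
    · rw [e1 i (by omega)]; exact h.Qe _
    · rw [f1 i (by omega)]; exact h.Qf _
    · rw [e1 i (by omega), e1 j (by omega)]; exact h.ee _ _
    · rw [f1 i (by omega), f1 j (by omega)]; exact h.ff _ _
    · rw [e1 i (by omega), f1 j (by omega), h.ef]
      simp only [Fin.mk.injEq]
  refine ⟨NN Q e f k, NN_mem_E _ _ _, ?_, ?_, fun i => ⟨?_, ?_⟩, fun v hv => ?_⟩
  · have := (NN_zero hN le_rfl).1
    rwa [e1 0 (by omega), e1 k (by omega)] at this
  · have := (NN_zero hN le_rfl).2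
    rwa [f1 0 (by omega), f1 k (by omega)] at this
  · have := (NN_le hN le_rfl i i.2).1
    rwa [e1 (i + 1) (by omega), e1 i (by omega)] at this
  · have := (NN_le hN le_rfl i i.2).2
    rwa [f1 (i + 1) (by omega), f1 i (by omega)] at this
  · refine NN_perp hN (fun i hi => ?_) (fun i hi => ?_) le_rfl
    · rw [e1 i (by omega)]; exact hv.1 _
    · rw [f1 i (by omega)]; exact hv.2 _

end cyc

end Cfsg.Agent.H79.DG
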