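import Cfsg.Agent.H79.DG.Transfer

/-!
# `CohAt p` for orthogonal groups in odd characteristic `p` (helper79, for `S4180`)
-/

set_option autoImplicit false

namespace Cfsg.Agent.H79.DG

open QuadraticMap Cfsg.Agent.LieClassical.OrthCore Cfsg.Agent.LieClassical.OrthTrans
  Cfsg.Agent.LieClassical.OrthSimple Cfsg.Agent.ClassicalGeometry.OrthAutBasic
  Cfsg.Agent.H887.SiegelMethod Cfsg.Agent.H137 Cfsg.Agent.H891.DG

universe u

/-- a hyperbolic family of `k + 1` pairs with an orthogonal complement spanned by two vectors -/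
def HasFam {F V : Type*} [Field F] [AddCommGroup V] [Module F V] (Q : QuadraticForm F V) (k : ℕ) : Prop :=
  ∃ (ev fv : Fin (k + 1) → V) (d0 d : V), HypFam Q ev fv ∧ Perp Q ev fv d0 ∧ Perp Q ev fv d ∧ Q d0 ≠ 0 ∧
    polar Q d0 d ≠ 0 ∧ ∀ v, Perp Q ev fv v → v ∈ Submodule.span F {d0, d}

section

variable {F V : Type*} [Field F] [AddCommGroup V] [Module F V] {Q : QuadraticForm F V}

/-- monomial maps normalise the monomial group -/
theorem mon_norm {ι : Type*} {ev fv : ι → V} {d0 : V} {he : ∀ i, ev i ≠ 0} {hf : ∀ i, fv i ≠ 0} {hQ0 : Q d0 ≠ 0}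
    {hd0 : Perp Q ev fv d0} {n : V ≃ₗ[F] V} (hnE : n ∈ E Q)
    (hn : ∀ i, ∃ j, (∃ a : F, n (ev i) = a • ev j) ∧ ∃ b : F, n (fv i) = b • fv j)
    (hnP : ∀ v, Perp Q ev fv v → n v = v) {g : V ≃ₗ[F] V} (hg : g ∈ mon Q ev fv he hf d0 hQ0 hd0) :
    n⁻¹ * g * n ∈ mon Q ev fv he hf d0 hQ0 hd0 := by
  obtain ⟨h1, h2, h3⟩ := hg
  have key : ∀ v, (n⁻¹ * g * n) v = n⁻¹ (g (n v)) := fun v => rfl
  have hnP' : ∀ v, Perp Q ev fv v → n⁻¹ v = v := by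
    intro v hv
    have h4 : n⁻¹ (n v) = v := n.symm_apply_apply v
    rwa [hnP v hv] at h4
  refine ⟨(E Q).mul_mem ((E Q).mul_mem ((E Q).inv_mem hnE) h1) hnE, fun i => ?_, ?_⟩
  · obtain ⟨j, ⟨a, ha⟩, b, hb⟩ := hn i
    have ha' : n⁻¹ (ev j) = a⁻¹ • ev i := inv_smul_of (he i) ha
    have hb' : n⁻¹ (fv j) = b⁻¹ • fv i := inv_smul_of (hf i) hb
    rcases h2 j with ⟨⟨a1, h4⟩, b1, h5⟩ | ⟨⟨a1, h4⟩, b1, h5⟩
    · refine Or.inl ⟨⟨a * a1 * a⁻¹, ?_⟩, ⟨b * b1 * b⁻¹, ?_⟩⟩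
      · rw [key, ha, map_smul, h4, map_smul, map_smul, ha', smul_smul, smul_smul]
      · rw [key, hb, map_smul, h5, map_smul, map_smul, hb', smul_smul, smul_smul]
    · refine Or.inr ⟨⟨a * a1 * b⁻¹, ?_⟩, ⟨b * b1 * a⁻¹, ?_⟩⟩
      · rw [key, ha, map_smul, h4, map_smul, map_smul, hb', smul_smul, smul_smul]
      · rw [key, hb, map_smul, h5, map_smul, map_smul, ha', smul_smul, smul_smul]
  · rcases h3 with h3 | h3
    · exact Or.inl fun v hv => by rw [key, hnP v hv, h3 v hv, hnP' v hv]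
    · exact Or.inr fun v hv => by rw [key, hnP v hv, h3 v hv, hnP' _ (hd0.refl hQ0 hv)]

theorem exists_central_inv (h2 : (2 : F) ≠ 0) {ι : Type*} [Fintype ι] [DecidableEq ι] {ev fv : ι → V} {d0 d : V}
    (h : HypFam Q ev fv) {hQ0 : Q d0 ≠ 0} {hd0 : Perp Q ev fv d0} (hd : Perp Q ev fv d) {i0 i j : ι}
    (h0i : i0 ≠ i) (h0j : i0 ≠ j) (hij : i ≠ j) :
    ∃ c ∈ mon Q ev fv (ne_zero_e h) (ne_zero_f h) d0 hQ0 hd0, c * T Q (ev i0) d = T Q (ev i0) d * c ∧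
      ∃ g ∈ E Q, g * c ≠ c * g := by
  set n := nn Q (ev i) (fv i) (ev j) (fv j) with hn
  have h3 := hyp2 h hij
  have key : ∀ v, (n * n) v = n (n v) := fun v => rfl
  have e1 : (n * n) (ev i) = - ev i := by rw [key, nn_x h3, nn_y h3]
  have e2 : (n * n) (fv i) = - fv i := by rw [key, nn_x' h3, nn_y' h3]
  have e3 : (n * n) (ev j) = - ev j := by rw [key, nn_y h3, map_neg, nn_x h3]
  have e4 : (n * n) (fv j) = - fv j := by rw [key, nn_y' h3, map_neg, nn_x' h3]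
  have e5 : ∀ v, polar Q (ev i) v = 0 → polar Q (fv i) v = 0 → polar Q (ev j) v = 0 → polar Q (fv j) v = 0 →
      (n * n) v = v := fun v p1 p2 p3 p4 => by rw [key, nn_fix h3 p1 p2 p3 p4, nn_fix h3 p1 p2 p3 p4]
  have hcE : n * n ∈ E Q := E_mul (nn_mem_E _ _ _ _) (nn_mem_E _ _ _ _)
  have e6 : ∀ l, l ≠ i → l ≠ j → (n * n) (ev l) = ev l ∧ (n * n) (fv l) = fv l := by
    intro l hli hlj
    exact ⟨e5 _ (h.ee _ _) (by rw [fe h, if_neg (Ne.symm hli)]) (h.ee _ _) (by rw [fe h, if_neg (Ne.symm hlj)]),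
      e5 _ (by rw [h.ef, if_neg (Ne.symm hli)]) (h.ff _ _) (by rw [h.ef, if_neg (Ne.symm hlj)]) (h.ff _ _)⟩
  have e7 : ∀ v, Perp Q ev fv v → (n * n) v = v := fun v hv => e5 v (hv.1 _) (hv.2 _) (hv.1 _) (hv.2 _)
  refine ⟨n * n, ⟨hcE, fun l => Or.inl ?_, Or.inl e7⟩, ?_, ?_⟩
  · by_cases hli : l = i
    · subst hli
      exact ⟨⟨-1, by rw [e1, neg_one_smul]⟩, ⟨-1, by rw [e2, neg_one_smul]⟩⟩
    by_cases hlj : l = j
    · subst hlj
      exact ⟨⟨-1, by rw [e3, neg_one_smul]⟩, ⟨-1, by rw [e4, neg_one_smul]⟩⟩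
    obtain ⟨h4, h5⟩ := e6 l hli hlj
    exact ⟨⟨1, by rw [h4, one_smul]⟩, ⟨1, by rw [h5, one_smul]⟩⟩
  · have h4 := T_conj (E_le_O hcE) (ev i0) d
    rw [(e6 i0 h0i h0j).1, e7 d hd] at h4
    rwa [mul_inv_eq_iff_eq_mul] at h4
  · refine ⟨T Q (ev i0) (ev i), T_mem_E _ _, fun h4 => ?_⟩
    have h5 := T_conj (E_le_O hcE) (ev i0) (ev i)
    rw [(e6 i0 h0i h0j).1, e1, mul_inv_eq_iff_eq_mul, ← h4] at h5
    have h6 := mul_right_cancel h5
    have h7 : T Q (ev i0) (ev i) (fv i0) = T Q (ev i0) (-ev i) (fv i0) :=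
      congrArg (fun z : V ≃ₗ[F] V => z (fv i0)) h6
    rw [T_apply (h.Qe _) (h.ee _ _), T_apply (h.Qe _) (by rw [polar_neg_right, h.ee, neg_zero]), QuadraticMap.map_neg,
      polar_neg_left, h.Qe, h.ef, if_pos rfl, h.ef, if_neg (Ne.symm h0i)] at h7
    simp only [zero_mul, zero_smul, sub_zero, neg_zero, one_smul] at h7
    have h8 := add_left_cancel h7
    have h9 : (2 : F) • ev i = 0 := by
      rw [two_smul]
      nth_rewrite 1 [h8]
      exact neg_add_cancel _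
    exact (ne_zero_e h i) ((smul_eq_zero.1 h9).resolve_left h2)

end

/-- `CohAt p` in odd characteristic `p` -/
theorem cohAt_odd {ι : Type} [Fintype ι] [DecidableEq ι] {F : Type*} [Field F] [Finite F] {p : ℕ} (hp : p.Prime)
    [CharP F p] (hp2 : p ≠ 2) {Q : QuadraticForm F (ι → F)} (hG : Good Q) {k : ℕ} (hk : 2 ≤ k) (h : HasFam Q k)
    {S : Type u} [Group S] [Finite S] [IsSimpleGroup S] (e : S ≃* Cfsg.POmega F ⇑Q) : CohAt p S := by
  obtain ⟨ev, fv, d0, d, hF, hd0, hd, hQ0, hdd, hspan⟩ := h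
  have : Fact p.Prime := ⟨hp⟩
  obtain ⟨n, hnE, hn0, hn0', hn1, hnP⟩ := exists_cyc hF
  have h2 : (2 : F) ≠ 0 := by
    intro h2
    have h3 : ((2 : ℕ) : F) = 0 := by exact_mod_cast h2
    have h4 := (CharP.cast_eq_zero_iff F p 2).1 h3
    exact hp2 ((Nat.prime_dvd_prime_iff_eq hp Nat.prime_two).1 h4)
  obtain ⟨c, hc, hcu, hc1⟩ := exists_central_inv h2 hF (hQ0 := hQ0) (hd0 := hd0) hd (i0 := 0) (i := ⟨1, by omega⟩)
    (j := ⟨2, by omega⟩) (by intro h0; have := congrArg Fin.val h0; simp at this)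
    (by intro h0; have := congrArg Fin.val h0; simp at this) (by intro h0; have := congrArg Fin.val h0; simp at this)
  refine cohAt_of_E hG hp (H := mon Q ev fv (ne_zero_e hF) (ne_zero_f hF) d0 hQ0 hd0) (fun g hg => hg.1)
    (mon_not_dvd hp2 hF) hnE (u := T Q (ev 0) d) (T_mem_E _ _) (fun g hg => ?_) hc hcu hc1
    (E_le_mono hG (by omega) hF hd0 hd hQ0 hdd hspan hnE hn0 (fun i => (hn1 i).1) hnP) e
  refine mon_norm hnE (fun i => ?_) hnP hg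
  refine Fin.cases ⟨Fin.last k, ⟨1, by rw [hn0, one_smul]⟩, ⟨1, by rw [hn0', one_smul]⟩⟩ (fun j => ?_) i
  exact ⟨j.castSucc, ⟨-1, by rw [(hn1 j).1, neg_one_smul]⟩, ⟨-1, by rw [(hn1 j).2, neg_one_smul]⟩⟩

end Cfsg.Agent.H79.DG
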