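import Cfsg.Agent.H79.DG.Fams
import Cfsg.Agent.H79.DG.EvenTwo

/-!
# `CohAt p` for the orthogonal groups in defining characteristic (helper79, for `S4180`, K9d, K9e, K9f)
-/

set_option autoImplicit false

namespace Cfsg.Agent.H79.DG

open QuadraticMap Cfsg.Agent.LieClassical.OrthCore Cfsg.Agent.LieClassical.OrthTrans
  Cfsg.Agent.LieClassical.OrthForms Cfsg.Agent.LieClassical.OrthFinite
  Cfsg.Agent.LieClassical.OrthSimple Cfsg.Agent.ClassicalGeometry.OrthAutBasic Cfsg.Agent.H137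
  Cfsg.Agent.H891.DG

universe u

section

variable {ι : Type} [Fintype ι] [DecidableEq ι] {F : Type*} [Field F] {Q : QuadraticForm F (ι → F)}

omit [Fintype ι] [DecidableEq ι] in
/-- the quotient is not commutative -/
theorem not_comm_quot (hG : Good Q) {S : Type u} [Group S] {f : ↥(E Q) →* S} {c : ↥(E Q)}
    (hc : f c ≠ 1) : ¬ IsMulCommutative S := by
  intro hS
  apply hc
  have h1 : commutator ↥(E Q) = ⊤ := by
    apply Subgroup.map_injective (E Q).subtype_injective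
    rw [Subgroup.map_subtype_commutator, hG.E_perfect, ← MonoidHom.range_eq_map, Subgroup.range_subtype]
  have h2 : c ∈ commutator ↥(E Q) := h1 ▸ Subgroup.mem_top c
  have h3 : commutator ↥(E Q) ≤ f.ker := by
    rw [commutator_eq_closure, Subgroup.closure_le]
    rintro _ ⟨x, y, rfl⟩
    rw [SetLike.mem_coe, MonoidHom.mem_ker, map_commutatorElement, commutatorElement_def]
    have h4 : f x * f y = f y * f x := hS.is_comm.comm _ _
    rw [h4, mul_inv_cancel_right, mul_inv_cancel]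
  exact h3 h2

/-- `Coh` from an involution `T(e_0, y)` and `b` -/
theorem coh_of_pair [Finite F] (h2 : (2 : F) = 0) (hG : Good Q) {e0 f0 d0 : ι → F} (h : Hyp Q e0 f0)
    (h1 : polar Q e0 d0 = 0) (h1' : polar Q f0 d0 = 0) (hQ0 : Q d0 ≠ 0)
    (hex : ∃ y, polar Q e0 y = 0 ∧ polar Q f0 y = 0 ∧ y ≠ 0 ∧
      ∃ b ∈ E Q, E Q ≤ Subgroup.closure {T Q e0 y, b})
    {S : Type u} [Group S] [Finite S] [IsSimpleGroup S] (e : S ≃* Cfsg.POmega F ⇑Q) : Coh S := by
  obtain ⟨y, hy1, hy2, hy0, b, hb, hgen⟩ := hex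
  obtain ⟨f, hf, hker⟩ := exists_surj hG e
  have hcE : T Q e0 y ∈ E Q := T_mem_E _ _
  have hc : f ⟨T Q e0 y, hcE⟩ ≠ 1 := by
    intro h3
    obtain ⟨g, hg, hne⟩ := not_comm hG h h1 h1' hQ0 hy1 hy2 hy0
    apply hne
    have h4 := Subgroup.mem_center_iff.1 (hker _ h3) ⟨g, hg⟩
    exact congrArg Subtype.val h4
  refine Tools.coh_of_involution (not_comm_quot hG hc) (c := f ⟨T Q e0 y, hcE⟩) (b := f ⟨b, hb⟩) ?_ hc ?_
  · rw [← map_pow]
    have h3 : (⟨T Q e0 y, hcE⟩ : ↥(E Q)) ^ 2 = 1 := by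
      apply Subtype.ext
      show T Q e0 y ^ 2 = 1
      rw [T_pow h.left hy1, ← Nat.cast_smul_eq_nsmul F, Nat.cast_ofNat, h2, zero_smul, T_zero_right]
    rw [h3, map_one]
  · have h3 := map_sup_closure (H := ⊥) hf bot_le hcE hb (by rwa [bot_sup_eq])
    rwa [Subgroup.bot_subgroupOf, Subgroup.map_bot, bot_sup_eq] at h3

/-- `Coh` in characteristic 2 -/
theorem coh_even [Finite F] (h2 : (2 : F) = 0) (hG : Good Q) {k : ℕ} (hk : 2 ≤ k) (h : HasFam Q k)
    {S : Type u} [Group S] [Finite S] [IsSimpleGroup S] (e : S ≃* Cfsg.POmega F ⇑Q) : Coh S := by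
  obtain ⟨ev, fv, d0, d, hF, hd0, hd, hQ0, hdd, hspan⟩ := h
  refine coh_of_pair h2 hG (e0 := ev 0) (f0 := fv 0) (d0 := d0)
    ⟨hF.Qe _, hF.Qf _, by rw [hF.ef, if_pos rfl]⟩ (hd0.1 _) (hd0.2 _) hQ0 ?_ e
  have hF1 : 2 ≤ Nat.card F := Finite.one_lt_card
  by_cases hq : 4 < Nat.card F ^ k
  · exact exists_b_singer h2 hG hk hq hF hd0 hd hQ0 hdd hspan
  -- `|F| = 2`, `k = 2`
  have hk2 : k = 2 := by
    by_contra hne
    apply hq
    calc 4 < 2 ^ 3 := by norm_num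
      _ ≤ 2 ^ k := Nat.pow_le_pow_right (by norm_num) (by omega)
      _ ≤ Nat.card F ^ k := Nat.pow_le_pow_left hF1 k
  subst hk2
  have hF2 : Nat.card F = 2 := by
    by_contra hne
    apply hq
    have h3 : 3 ≤ Nat.card F := by omega
    calc 4 < 3 ^ 2 := by norm_num
      _ ≤ Nat.card F ^ 2 := Nat.pow_le_pow_left h3 2
  have hF01 : ∀ a : F, a = 0 ∨ a = 1 := by
    intro a
    by_contra hne
    push Not at hne
    have h3 : ({0, 1, a} : Set F).ncard = 3 := by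
      rw [Set.ncard_insert_of_notMem, Set.ncard_pair (Ne.symm hne.2)]
      rintro (h4 | h4)
      · exact zero_ne_one h4
      · exact hne.1 h4.symm
    have h4 := Set.ncard_le_card ({0, 1, a} : Set F)
    omega
  exact exists_b_eight h2 hF01 hG hF hd0 hd hQ0 hdd hspan

theorem cohAt_of_hasFam [Finite F] {p : ℕ} (hp : p.Prime) [CharP F p] (hG : Good Q) {k : ℕ} (hk : 2 ≤ k)
    (h : HasFam Q k) {S : Type u} [Group S] [Finite S] [IsSimpleGroup S] (e : S ≃* Cfsg.POmega F ⇑Q) :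
    CohAt p S := by
  by_cases hp2 : p = 2
  · subst hp2
    have h2 : (2 : F) = 0 := by exact_mod_cast CharP.cast_eq_zero F 2
    exact coh_even h2 hG hk h e 2 Nat.prime_two
  · exact cohAt_odd hp hp2 hG hk h e

end

variable {F : Type} [Field F] [Fintype F] {p : ℕ}

theorem two_ne_zero_of_odd (hodd : Odd (Fintype.card F)) : (2 : F) ≠ 0 := by
  intro h
  have hch : ringChar F = 2 := by
    refine CharP.ringChar_of_prime_eq_zero Nat.prime_two ?_
    exact_mod_cast h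
  have h3 : ringChar F ∣ Fintype.card F := (ringChar.spec F _).1 (FiniteField.cast_card_eq_zero F)
  rw [hch] at h3
  exact (Nat.not_even_iff_odd.2 hodd) (even_iff_two_dvd.2 h3)

/-- **K9d** -/
theorem cohAt_POmegaOdd {S : Type u} [Group S] [Finite S] [IsSimpleGroup S] (hp : p.Prime) [CharP F p]
    (hodd : Odd (Fintype.card F)) {m : ℕ} (hm : 3 ≤ m) (e : S ≃* Cfsg.POmega F (Cfsg.quadFormOdd m F)) :
    CohAt p S := by
  obtain ⟨k, rfl⟩ : ∃ k, m = k + 1 := ⟨m - 1, by omega⟩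
  have h2 := two_ne_zero_of_odd hodd
  rw [← coe_oddForm] at e
  exact cohAt_of_hasFam hp (S2413.good_odd h2 k (by omega)) (by omega) (hasFam_odd h2 k) e

/-- **K9e** -/
theorem cohAt_POmegaPlus {S : Type u} [Group S] [Finite S] [IsSimpleGroup S] (hp : p.Prime) [CharP F p]
    {m : ℕ} (hm : 4 ≤ m) (e : S ≃* Cfsg.POmega F (Cfsg.quadFormPlus m F)) : CohAt p S := by
  obtain ⟨k, rfl⟩ : ∃ k, m = k + 2 := ⟨m - 2, by omega⟩
  rw [← coe_plusForm] at e
  exact cohAt_of_hasFam hp (good_plus k (by omega)) (by omega) (hasFam_plus k) e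

/-- **K9f** -/
theorem cohAt_POmegaMinus {S : Type u} [Group S] [Finite S] [IsSimpleGroup S] (hp : p.Prime) [CharP F p]
    {m : ℕ} (hm : 4 ≤ m) {a b : F} (hab : ∀ z₁ z₂ : F, z₁ ^ 2 + a * z₁ * z₂ + b * z₂ ^ 2 = 0 → z₁ = 0 ∧ z₂ = 0)
    (e : S ≃* Cfsg.POmega F (Cfsg.quadFormMinus (m - 1) F a b)) : CohAt p S := by
  obtain ⟨k, rfl⟩ : ∃ k, m = k + 2 := ⟨m - 2, by omega⟩
  have e' : S ≃* Cfsg.POmega F (Cfsg.quadFormMinus (k + 1) F a b) := e
  rw [← coe_minusForm] at e'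
  exact cohAt_of_hasFam hp (good_minus k (by omega) hab) (by omega) (hasFam_minus k hab) e'

/-- `Coh` for `POmega^+` over fields of characteristic 2 -/
theorem coh_POmegaPlus_two {S : Type u} [Group S] [Finite S] [IsSimpleGroup S] (h2 : (2 : F) = 0)
    {m : ℕ} (hm : 4 ≤ m) (e : S ≃* Cfsg.POmega F (Cfsg.quadFormPlus m F)) : Coh S := by
  obtain ⟨k, rfl⟩ : ∃ k, m = k + 2 := ⟨m - 2, by omega⟩
  rw [← coe_plusForm] at e
  exact coh_even h2 (good_plus k (by omega)) (by omega) (hasFam_plus k) e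

/-- `Coh` for `POmega^-` over fields of characteristic 2 -/
theorem coh_POmegaMinus_two {S : Type u} [Group S] [Finite S] [IsSimpleGroup S] (h2 : (2 : F) = 0)
    {m : ℕ} (hm : 4 ≤ m) {a b : F} (hab : ∀ z₁ z₂ : F, z₁ ^ 2 + a * z₁ * z₂ + b * z₂ ^ 2 = 0 → z₁ = 0 ∧ z₂ = 0)
    (e : S ≃* Cfsg.POmega F (Cfsg.quadFormMinus (m - 1) F a b)) : Coh S := by
  obtain ⟨k, rfl⟩ : ∃ k, m = k + 2 := ⟨m - 2, by omega⟩
  have e' : S ≃* Cfsg.POmega F (Cfsg.quadFormMinus (k + 1) F a b) := e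
  rw [← coe_minusForm] at e'
  exact coh_even h2 (good_minus k (by omega) hab) (by omega) (hasFam_minus k hab) e'

end Cfsg.Agent.H79.DG
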