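import Cfsg.Agent.H79.DG.Gen
import Cfsg.Agent.H891.DG.Tools

/-!
# Transfer of the criteria for `Coh` from `E Q` to `POmega` (helper79, for `S4180`)
-/

set_option autoImplicit false

namespace Cfsg.Agent.H79.DG

open QuadraticMap Cfsg.Agent.LieClassical.OrthCore Cfsg.Agent.LieClassical.OrthTrans
  Cfsg.Agent.LieClassical.OrthSimple Cfsg.Agent.ClassicalGeometry.OrthAutBasic
  Cfsg.Agent.H887.SiegelMethod Cfsg.Agent.H137 Cfsg.Agent.H891.DG

universe u

variable {ι : Type} [Fintype ι] [DecidableEq ι] {F : Type*} [Field F] {Q : QuadraticForm F (ι → F)}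

theorem exists_surj (hG : Good Q) {T : Type u} [Group T] (e : T ≃* Cfsg.POmega F ⇑Q) :
    ∃ f : ↥(E Q) →* T, Function.Surjective f ∧ ∀ x, f x = 1 → x ∈ Subgroup.center ↥(E Q) := by
  have eE : Cfsg.Omega F ⇑Q ≃* ↥(E Q) :=
    (Cfsg.Agent.LieClassical.OrthFinite.omegaEquiv Q).trans (MulEquiv.subgroupCongr hG.commutator_eq_E)
  refine ⟨e.symm.toMonoidHom.comp ((QuotientGroup.mk' (Subgroup.center (Cfsg.Omega F ⇑Q))).comp
    eE.symm.toMonoidHom), ?_, ?_⟩
  · refine e.symm.surjective.comp ?_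
    exact (QuotientGroup.mk'_surjective _).comp eE.symm.surjective
  · intro x hx
    have h1 : (QuotientGroup.mk' (Subgroup.center (Cfsg.Omega F ⇑Q))) (eE.symm x) = 1 := by
      have h2 : e.symm ((QuotientGroup.mk' (Subgroup.center (Cfsg.Omega F ⇑Q))) (eE.symm x)) = 1 := hx
      exact (MulEquiv.map_eq_one_iff e.symm).1 h2
    have h3 : eE.symm x ∈ Subgroup.center (Cfsg.Omega F ⇑Q) := (QuotientGroup.eq_one_iff _).1 h1
    rw [Subgroup.mem_center_iff] at h3 ⊢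
    intro g
    have h4 := congrArg eE (h3 (eE.symm g))
    rwa [map_mul, map_mul, eE.apply_symm_apply, eE.apply_symm_apply] at h4

/-- a subgroup of the ambient group and two elements which generate `E Q` -/
theorem map_sup_closure {G : Type*} [Group G] {S : Subgroup G} {T : Type*} [Group T] {f : ↥S →* T}
    (hf : Function.Surjective f) {H : Subgroup G} (hHS : H ≤ S) {a b : G} (ha : a ∈ S) (hb : b ∈ S)
    (h : S ≤ H ⊔ Subgroup.closure {a, b}) :
    (H.subgroupOf S).map f ⊔ Subgroup.closure {f ⟨a, ha⟩, f ⟨b, hb⟩} = ⊤ := by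
  have h1 : H.subgroupOf S ⊔ Subgroup.closure {(⟨a, ha⟩ : ↥S), ⟨b, hb⟩} = ⊤ := by
    apply Subgroup.map_injective S.subtype_injective
    rw [Subgroup.map_sup, MonoidHom.map_closure, Subgroup.map_subgroupOf_eq_of_le hHS]
    have h2 : S.subtype '' {(⟨a, ha⟩ : ↥S), ⟨b, hb⟩} = {a, b} := by
      rw [Set.image_pair]; rfl
    rw [h2, ← MonoidHom.range_eq_map, Subgroup.range_subtype]
    refine le_antisymm (sup_le hHS ?_) h
    rw [Subgroup.closure_le]
    rintro x (rfl | rfl)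
    · exact ha
    · exact hb
  have h3 := congrArg (Subgroup.map f) h1
  rw [Subgroup.map_sup, MonoidHom.map_closure, Set.image_pair, ← MonoidHom.range_eq_map,
    MonoidHom.range_eq_top.2 hf] at h3
  exact h3

/-- the torus criterion -/
theorem cohAt_of_E [Finite F] (hG : Good Q) {p : ℕ} (hp : p.Prime) {H : Subgroup ((ι → F) ≃ₗ[F] (ι → F))}
    (hHE : H ≤ E Q) (hH : ¬ p ∣ Nat.card H) {n u : (ι → F) ≃ₗ[F] (ι → F)} (hnE : n ∈ E Q) (huE : u ∈ E Q)
    (hn : ∀ h ∈ H, n⁻¹ * h * n ∈ H) {c : (ι → F) ≃ₗ[F] (ι → F)} (hc : c ∈ H) (hcu : c * u = u * c)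
    (hc1 : ∃ g ∈ E Q, g * c ≠ c * g) (hgen : E Q ≤ H ⊔ Subgroup.closure {u, n})
    {T : Type u} [Group T] [Finite T] [IsSimpleGroup T] (e : T ≃* Cfsg.POmega F ⇑Q) : CohAt p T := by
  obtain ⟨f, hf, hker⟩ := exists_surj hG e
  have hfin : Finite ((ι → F) ≃ₗ[F] (ι → F)) :=
    Finite.of_injective (fun g : (ι → F) ≃ₗ[F] (ι → F) => (g : (ι → F) → (ι → F))) DFunLike.coe_injective
  refine Tools.cohAt_of_torus (H := (H.subgroupOf (E Q)).map f) (H₁ := Subgroup.zpowers (f ⟨c, hHE hc⟩))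
    (n := f ⟨n, hnE⟩) (u := f ⟨u, huE⟩) hp ?_ ?_ ?_ ?_ ?_ (map_sup_closure hf hHE huE hnE hgen)
  · intro hd
    apply hH
    have h1 : Nat.card ((H.subgroupOf (E Q)).map f) ∣ Nat.card (H.subgroupOf (E Q)) := Subgroup.card_map_dvd _ _
    have h2 : Nat.card (H.subgroupOf (E Q)) = Nat.card H :=
      Nat.card_congr (Subgroup.subgroupOfEquivOfLe hHE).toEquiv
    rw [h2] at h1
    exact hd.trans h1
  · rintro _ ⟨x, hx, rfl⟩
    refine ⟨⟨n, hnE⟩⁻¹ * x * ⟨n, hnE⟩, ?_, by rw [map_mul, map_mul, map_inv]⟩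
    have h1 := hn x hx
    exact h1
  · rw [Subgroup.zpowers_le]
    exact ⟨_, hc, rfl⟩
  · intro h0
    rw [Subgroup.zpowers_eq_bot] at h0
    have h1 := hker _ h0
    obtain ⟨g, hg, hne⟩ := hc1
    apply hne
    have h2 := Subgroup.mem_center_iff.1 h1 ⟨g, hg⟩
    exact congrArg Subtype.val h2
  · intro h hh
    obtain ⟨i, rfl⟩ := Subgroup.mem_zpowers_iff.1 hh
    have h1 : Commute (f ⟨c, hHE hc⟩) (f ⟨u, huE⟩) := by
      show _ * _ = _ * _
      rw [← map_mul, ← map_mul]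
      congr 1
      exact Subtype.ext hcu
    exact (h1.zpow_left i)

end Cfsg.Agent.H79.DG
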